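import Cfsg.Agent.Lib.SU3Even96.Main

set_option autoImplicit false
set_option linter.style.haveILetI false
set_option linter.unusedSectionVars false
set_option linter.unusedVariables false

/-!
With all parameters present every isotropic vector is a centre, so the group is `SU(3, q)`.
-/

namespace Cfsg.Agent.Lib.SU3Even96

open Cfsg.Geo Cfsg.Agent.Lib.PrimeDim.Basic Cfsg.Agent.Lib.PrimeDim.Fields Cfsg.Agent.Lib.PrimeDim.Unitary
open Cfsg.Agent.Lib.PrimeDim.UnitaryBase Cfsg.Agent.Lib.PrimeDim.Symplectic Cfsg.Agent.Lib.Unitary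
open Cfsg.Agent.Lib.SU3Max96
open scoped Matrix MatrixGroups commutatorElement

variable {F : Type*} [Field F] [Fintype F] {q : ℕ} {P : Subgroup (GL (Fin 3) F)}

/-- `P` contains every elation with centre `v`. -/
def FullAt (P : Subgroup (GL (Fin 3) F)) (q : ℕ) (v : Fin 3 → F) : Prop :=
  ∀ c : F, c ^ q = c → Par P q v c

lemma fullAt_move (hP : P ≤ GU 3 F q) {v w : Fin 3 → F} (hw : FullAt P q w) {g : GL (Fin 3) F} (hg : g ∈ P)
    (e : g.val *ᵥ w = v) : FullAt P q v := fun c hc => e ▸ (par_conj hP hg).mpr (hw c hc)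

/-- Lines through two centres. -/
lemma fullAt_line (hF : Fintype.card F = q ^ 2) (h2 : (2 : F) = 0) (hP : P ≤ GU 3 F q) {u v : Fin 3 → F}
    (hu : FullAt P q u) (hv : FullAt P q v) (hu0 : hermForm 3 F q u u = 0) (hv0 : hermForm 3 F q v v = 0)
    (huv : hermForm 3 F q u v ≠ 0) {μ : F} (hy : hermForm 3 F q (u + μ • v) (u + μ • v) = 0) :
    FullAt P q (u + μ • v) := by
  simp only [herm_add_left, herm_smul_left, herm_add_right _ _ _ hF, herm_smul_right, hu0, hv0, mul_zero,
    add_zero, zero_add] at hy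
  set η := hermForm 3 F q u v with hη
  rw [← herm_conj u v hF, ← hη] at hy
  have hc : (μ / η) ^ q = μ / η := by
    rw [div_pow, div_eq_div_iff (pow_ne_zero q huv) huv]
    linear_combination hy - (μ * η ^ q) * h2
  obtain ⟨g, hg, hgv⟩ := hv (μ / η) hc
  refine fullAt_move hP hu hg ?_
  rw [hgv u, ← hη, div_mul_cancel₀ _ huv]

/-- Translates by real multiples of a centre. -/
lemma fullAt_shift (hP : P ≤ GU 3 F q) {a u : Fin 3 → F} (ha : FullAt P q a) (hu : FullAt P q u)
    (hua : hermForm 3 F q u a = 1) {k : F} (hk : k ^ q = k) : FullAt P q (u + k • a) := by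
  obtain ⟨g, hg, hga⟩ := ha k hk
  refine fullAt_move hP hu hg ?_
  rw [hga u, hua, mul_one]

/-- All isotropic vectors are centres. -/
theorem fullAt_of_isotropic (hF : Fintype.card F = q ^ 2) (h2 : (2 : F) = 0) (hP : P ≤ GU 3 F q)
    (habs : ActsAbsolutelyIrreducibly (matrixSet P)) (hfull : ∀ d, Centre P q d → FullAt P q d)
    {a : Fin 3 → F} (hca : Centre P q a) {x : Fin 3 → F} (hx0 : x ≠ 0) (hx : hermForm 3 F q x x = 0) :
    FullAt P q x := by
  classical
  have hscale : ∀ {v : Fin 3 → F}, hermForm 3 F q v v = 0 → v ≠ 0 → FullAt P q v → ∀ {l : F}, l ≠ 0 →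
      FullAt P q (l • v) := fun {v} hv hv0 hvf {l} hl => hfull _ (Centre.smul
    ⟨hv0, hv, 1, one_ne_zero, hvf 1 (one_pow q)⟩ hl)
  have ha := hfull a hca
  obtain ⟨ha0, haa, -⟩ := hca
  have hcen : ∀ d, Centre P q d → d ∉ Submodule.span F {a} → ∃ l : F, l ≠ 0 ∧ Centre P q (l • d) ∧
      hermForm 3 F q (l • d) a = 1 := by
    intro d hd hdn
    have hda : hermForm 3 F q d a ≠ 0 := by
      intro h
      obtain ⟨k, hk⟩ := prop_of_orth hF ha0 haa hd.2.1 (herm_eq_zero_symm hF h)
      exact hdn (hk ▸ Submodule.smul_mem _ _ (Submodule.mem_span_singleton_self a))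
    exact ⟨_, inv_ne_zero hda, hd.smul (inv_ne_zero hda), by rw [herm_smul_left, inv_mul_cancel₀ hda]⟩
  obtain ⟨b₀, hb₀, hb₀n⟩ := exists_centre_notMem hP habs ⟨ha0, haa, 1, one_ne_zero, ha 1 (one_pow q)⟩
    (W := Submodule.span F {a}) (fun h => by
    have := congrArg (fun W : Submodule F (Fin 3 → F) => Module.finrank F W) h
    rw [finrank_span_singleton ha0, finrank_top, Module.finrank_fin_fun] at this
    omega)
  obtain ⟨lb, hlb, hb, hba⟩ := hcen b₀ hb₀ hb₀n
  set b := lb • b₀ with hbdef
  obtain ⟨c₀, hc₀, hc₀n⟩ := exists_centre_notMem hP habs ⟨ha0, haa, 1, one_ne_zero, ha 1 (one_pow q)⟩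
    (W := Submodule.span F {b, a}) (fun h => by
    have h1 := finrank_span_finset_le_card (R := F) ({b, a} : Finset (Fin 3 → F))
    rw [Set.finrank, Finset.coe_insert, Finset.coe_singleton, h, finrank_top, Module.finrank_fin_fun] at h1
    exact absurd (h1.trans Finset.card_le_two) (by norm_num))
  obtain ⟨lc, hlc, hc, hca'⟩ := hcen c₀ hc₀
    (fun h => hc₀n (Submodule.span_mono (by simp) h))
  set c := lc • c₀ with hcdef
  set d := c - b with hd
  have hda : hermForm 3 F q d a = 0 := by rw [hd, herm_sub_left, hca', hba, sub_self]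
  have hab : hermForm 3 F q a b = 1 := by rw [← herm_conj _ _ hF, hba, one_pow]
  -- the points of the affine line at infinity
  let Ok : F → Prop := fun μ => ∃ κ : F, hermForm 3 F q (b + μ • d + κ • a) (b + μ • d + κ • a) = 0 ∧
    FullAt P q (b + μ • d + κ • a)
  have h1val : ∀ μ κ, hermForm 3 F q (b + μ • d + κ • a) a = 1 := fun μ κ => by
    rw [herm_add_left, herm_add_left, herm_smul_left _ _ μ, herm_smul_left _ _ κ, hda, haa, hba, mul_zero, mul_zero,
      add_zero, add_zero]
  have hshift : ∀ (y : Fin 3 → F) (k : F), hermForm 3 F q y a = 1 → hermForm 3 F q y y = 0 →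
      hermForm 3 F q (y + k • a) (y + k • a) = k + k ^ q := by
    intro y k hya hyy
    have hay : hermForm 3 F q a y = 1 := by rw [← herm_conj _ _ hF, hya, one_pow]
    simp only [herm_add_left, herm_smul_left, herm_add_right _ _ _ hF, herm_smul_right, haa, hyy, hya, hay]
    ring
  have hok0 : Ok 0 := ⟨0, by simp only [zero_smul, add_zero]; exact hb.2.1, by
    simp only [zero_smul, add_zero]; exact hfull b hb⟩
  have hok1 : Ok 1 := ⟨0, by simp only [one_smul, zero_smul, add_zero, hd, add_sub_cancel]; exact hc.2.1, by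
    simp only [one_smul, zero_smul, add_zero, hd, add_sub_cancel]; exact hfull c hc⟩
  have hstep : ∀ μ ν t : F, Ok μ → Ok ν → t ^ q ≠ t → Ok (μ + t * (ν - μ)) := by
    intro μ ν t ⟨κ, hu0, hu⟩ ⟨κ', hv0, hv⟩ ht
    set u := b + μ • d + κ • a with hudef
    set v := b + ν • d + κ' • a with hvdef
    set p₀ := hermForm 3 F q u v with hp₀
    have htq : t + t ^ q ≠ 0 := fun h => ht (by linear_combination h - t * h2)
    have ht1 : 1 + t ≠ 0 := fun h => ht (by
      rw [show t = 1 by linear_combination h - h2, one_pow])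
    set A := (1 + t) * t ^ q * p₀ with hA
    set s := (A + A ^ q) / (t + t ^ q) with hs
    have hsr : s ^ q = s := by
      rw [hs, div_pow, add_pow_q hF, add_pow_q hF, pow_q_q hF, pow_q_q hF, add_comm (A ^ q) A,
        add_comm (t ^ q) t]
    have hst : s * (t + t ^ q) = A + A ^ q := div_mul_cancel₀ _ htq
    have hua := h1val μ κ
    have hva := h1val ν κ'
    rw [← hudef] at hua
    rw [← hvdef] at hva
    set u' := u + s • a with hu'
    have hu'f : FullAt P q u' := fullAt_shift hP ha hu hua hsr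
    have hu'0 : hermForm 3 F q u' u' = 0 := by
      rw [hu', hshift u s hua hu0, hsr]; exact add_self_eq h2 s
    have hu'a : hermForm 3 F q u' a = 1 := by
      rw [hu', herm_add_left, herm_smul_left, haa, mul_zero, add_zero, hua]
    have hav : hermForm 3 F q a v = 1 := by rw [← herm_conj _ _ hF, hva, one_pow]
    have huv : hermForm 3 F q u' v = p₀ + s := by
      rw [hu', herm_add_left, herm_smul_left, hav, mul_one]
    have hiso : hermForm 3 F q (u' + (t / (1 + t)) • v) (u' + (t / (1 + t)) • v) = 0 := by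
      have hmain : hermForm 3 F q ((1 + t) • u' + t • v) ((1 + t) • u' + t • v) = 0 := by
        simp only [herm_add_left, herm_smul_left, herm_add_right _ _ _ hF, herm_smul_right, hu'0, hv0, huv,
          ← herm_conj u' v hF, add_pow_q hF, hsr, one_pow]
        rw [hA, mul_pow, mul_pow, add_pow_q hF, one_pow, pow_q_q hF] at hst
        linear_combination hst + ((1 + t) * t ^ q * p₀ + t * (1 + t ^ q) * p₀ ^ q + t * t ^ q * s) * h2
      have e : u' + (t / (1 + t)) • v = (1 + t)⁻¹ • ((1 + t) • u' + t • v) := by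
        rw [smul_add ((1 + t)⁻¹), inv_smul_smul₀ ht1, smul_smul, div_eq_inv_mul]
      rw [e, herm_smul_left, herm_smul_right, hmain, mul_zero, mul_zero]
    have hfin : FullAt P q (u' + (t / (1 + t)) • v) := by
      by_cases hz : hermForm 3 F q u' v = 0
      · have hv0' : v ≠ 0 := fun h => one_ne_zero (α := F) (by rw [← hva, h, herm_zero_left])
        obtain ⟨k, hk⟩ := prop_of_orth hF hv0' hv0 hu'0 (herm_eq_zero_symm hF hz)
        rw [hk, ← add_smul]
        refine hscale hv0 hv0' hv ?_
        have hk1 : k = 1 := by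
          rw [hk, herm_smul_left, hva, mul_one] at hu'a; exact hu'a
        rw [hk1]
        intro h
        have h' : (1 + t) + t = 0 := by
          have := congrArg (· * (1 + t)) h
          simp only [add_mul, one_mul, zero_mul, div_mul_cancel₀ _ ht1] at this
          exact this
        exact one_ne_zero (α := F) (by linear_combination h' - t * h2)
      · exact fullAt_line hF h2 hP hu'f hv hu'0 hv0 hz hiso
    refine ⟨κ + t * (κ' - κ) + (1 + t) * s, ?_⟩
    have e : b + (μ + t * (ν - μ)) • d + (κ + t * (κ' - κ) + (1 + t) * s) • a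
        = (1 + t) • (u' + (t / (1 + t)) • v) := by
      rw [smul_add, smul_smul, mul_div_cancel₀ _ ht1, hu', hudef, hvdef]
      funext i
      simp only [Pi.smul_apply, Pi.add_apply, smul_eq_mul]
      linear_combination (-(t * b i) - t * μ * d i - t * κ * a i) * h2
    rw [e]
    refine ⟨iso_smul hiso _, hscale hiso ?_ hfin ht1⟩
    intro h
    have := congrArg (fun w => hermForm 3 F q w a) h
    simp only [herm_add_left, herm_smul_left, hu'a, hva, mul_one, herm_zero_left] at this
    have h' : (1 + t) + t = 0 := by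
      have := congrArg (· * (1 + t)) this
      simp only [add_mul, one_mul, zero_mul, div_mul_cancel₀ _ ht1] at this
      exact this
    exact one_ne_zero (α := F) (by linear_combination h' - t * h2)
  obtain ⟨t₀, ht₀⟩ := exists_conj_ne hF
  have ht₀' : t₀ ^ q ≠ t₀ := by rw [← conj_apply hF]; exact ht₀
  have hokn : ∀ t : F, t ^ q ≠ t → Ok t := fun t ht => by
    have := hstep 0 1 t hok0 hok1 ht
    rwa [sub_zero, mul_one, zero_add] at this
  have hok : ∀ μ, Ok μ := by
    intro μ
    by_cases hμ : μ ^ q = μ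
    · rcases eq_or_ne μ 0 with rfl | hμ0
      · exact hok0
      have ht0 : t₀ ≠ 0 := fun h => ht₀' (by rw [h, zero_pow_q hF])
      have := hstep 0 t₀ (μ / t₀) hok0 (hokn t₀ ht₀') (fun h => ht₀' (by
        rw [div_pow, hμ, div_eq_div_iff (pow_ne_zero q ht0) ht0] at h
        exact (mul_left_cancel₀ hμ0 h).symm))
      rwa [sub_zero, div_mul_cancel₀ _ ht0, zero_add] at this
    · exact hokn μ hμ
  by_cases hxa : hermForm 3 F q x a = 0
  · obtain ⟨k, hk⟩ := prop_of_orth hF ha0 haa hx (herm_eq_zero_symm hF hxa)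
    rw [hk]
    exact hscale haa ha0 ha fun h => hx0 (by rw [hk, h, zero_smul])
  set y := (hermForm 3 F q x a)⁻¹ • x with hy
  have hya : hermForm 3 F q y a = 1 := by rw [hy, herm_smul_left, inv_mul_cancel₀ hxa]
  have hyy : hermForm 3 F q y y = 0 := iso_smul hx _
  suffices hyf : FullAt P q y by
    have := hscale hyy (smul_ne_zero (inv_ne_zero hxa) hx0) hyf hxa
    rwa [hy, smul_inv_smul₀ hxa] at this
  have hspan : ∃ α β γ : F, y = α • b + β • d + γ • a := by
    have hli : LinearIndependent F ![c, b, a] := by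
      refine linearIndependent_finCons.mpr ⟨linearIndependent_finCons.mpr ⟨?_, ?_⟩, ?_⟩
      · rw [linearIndependent_unique_iff]; exact ha0
      · intro h
        rw [Matrix.range_cons, Matrix.range_empty, Set.union_empty] at h
        exact hb₀n (by rw [← inv_smul_smul₀ hlb b₀]; exact Submodule.smul_mem _ _ h)
      · intro h
        rw [Matrix.range_cons_cons_empty] at h
        exact hc₀n (by rw [← inv_smul_smul₀ hlc c₀]; exact Submodule.smul_mem _ _ h)
    have hs := hli.span_eq_top_of_card_eq_finrank (by simp)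
    have hm : y ∈ Submodule.span F (Set.range ![c, b, a]) := hs ▸ Submodule.mem_top
    obtain ⟨r, hr⟩ := (Submodule.mem_span_range_iff_exists_fun F).mp hm
    refine ⟨r 0 + r 1, r 0, r 2, ?_⟩
    rw [← hr, Fin.sum_univ_three, hd, smul_sub, add_smul]
    show r 0 • c + r 1 • b + r 2 • a = _
    abel
  obtain ⟨α, β, γ, hyv⟩ := hspan
  have hα : α = 1 := by
    rw [hyv, herm_add_left, herm_add_left, herm_smul_left _ _ α, herm_smul_left _ _ β, herm_smul_left _ _ γ, hba, hda, haa,
      mul_zero, mul_zero, add_zero, add_zero, mul_one] at hya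
    exact hya
  rw [hα, one_smul] at hyv
  obtain ⟨κ, hw0, hw⟩ := hok β
  set w := b + β • d + κ • a with hwdef
  have hyw : y = w + (γ - κ) • a := by rw [hyv, hwdef, sub_smul]; abel
  have hk : (γ - κ) ^ q = γ - κ := by
    have h := hshift w (γ - κ) (h1val β κ) hw0
    rw [← hyw, hyy] at h
    linear_combination -h - (γ - κ) * h2
  rw [hyw]
  exact fullAt_shift hP ha hw (h1val β κ) hk

/-- In even order no subgroup below `SU(3, q)` has a residual core. -/
theorem no_core (hF : Fintype.card F = q ^ 2) (hq : Even q) (hq3 : 3 ≤ q) {X P : Subgroup (GL (Fin 3) F)}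
    (hX : X < SU3 F q) (hcore : IsResidualCore X P) : False := by
  have h2 := two_eq_zero hF hq
  have hXG : X ≤ GU 3 F q := fun g hg => (hX.le hg).1
  have hP : P ≤ GU 3 F q := hcore.le.trans hXG
  obtain ⟨a, E, ha, hk, hall⟩ := exists_field hF h2 hXG hcore
  have hEfull := field_full hF h2 hXG hcore ha hk hall
  have hfull : ∀ d, Centre P q d → FullAt P q d := by
    intro d hd c hc
    obtain ⟨l, hl0, hl⟩ := hall d hd
    have hN : c / (l * l ^ q) ∈ E := hEfull _ (by
      rw [div_pow, mul_pow, pow_q_q hF, hc, mul_comm (l ^ q) l])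
    have := (hl.2.2 _).mpr hN
    rwa [par_scale, div_mul_cancel₀ _ (norm_ne_zero hl0)] at this
  have hT : (TGroup F q 3).map (GU 3 F q).subtype ≤ P := by
    rw [Subgroup.map_le_iff_le_comap, TGroup, Subgroup.closure_le]
    rintro A ⟨v, c, hv, hc, hA⟩
    show A.1 ∈ P
    rcases eq_or_ne v 0 with rfl | hv0
    · have : A.1 = 1 := Units.ext (Matrix.ext_of_mulVec_single fun i => by
        rw [hA, smul_zero, add_zero, Units.val_one, Matrix.one_mulVec])
      rw [this]; exact one_mem P
    obtain ⟨g, hg, hgv⟩ := fullAt_of_isotropic hF h2 hP hcore.absIrred hfull ha.centre hv0 hv c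
      (by linear_combination hc - c * h2)
    have hA' : TvElt q v c A.1 := hA
    exact TvElt.eq hA' hgv ▸ hg
  refine hX.2 fun g hg => hcore.le (hT ⟨⟨g, hg.1⟩, ?_, rfl⟩)
  exact mem_TGroup hF le_rfl (fun h => by omega) _ (mem_specialLinear.mp hg.2)

end Cfsg.Agent.Lib.SU3Even96
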