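import Cfsg.Agent.Lib.SU3Max96.Reducible

set_option autoImplicit false
set_option linter.style.haveILetI false
set_option linter.unusedSectionVars false
set_option linter.unusedVariables false

/-!
Elations in `SU(3, q)`, `q` even: involutions, composition, commuting elations.
-/

namespace Cfsg.Agent.Lib.SU3Even96

open Cfsg.Geo Cfsg.Agent.Lib.PrimeDim.Basic Cfsg.Agent.Lib.PrimeDim.Fields Cfsg.Agent.Lib.PrimeDim.Unitary
open Cfsg.Agent.Lib.PrimeDim.UnitaryBase Cfsg.Agent.Lib.PrimeDim.Symplectic Cfsg.Agent.Lib.Unitary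
open Cfsg.Agent.Lib.SU3Max96
open scoped Matrix MatrixGroups commutatorElement

variable {F : Type*} [Field F] [Fintype F] {q : ℕ}

/-- In even order the characteristic is two. -/
lemma two_eq_zero (hF : Fintype.card F = q ^ 2) (hq : Even q) : (2 : F) = 0 := by
  obtain ⟨p, k, hp, hchar, hk, hqk⟩ := q_eq_primePow hF
  have hp2 : 2 ∣ p := Nat.prime_two.dvd_of_dvd_pow (hqk ▸ hq.two_dvd)
  have h2 : 2 = p := (Nat.prime_dvd_prime_iff_eq Nat.prime_two hp).mp hp2
  have h0 : ((p : ℕ) : F) = 0 := CharP.cast_eq_zero F p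
  rw [← h2] at h0
  exact_mod_cast h0

lemma neg_eq_self (h2 : (2 : F) = 0) (x : F) : -x = x := by linear_combination (-x) * h2

lemma add_self_eq (h2 : (2 : F) = 0) (x : F) : x + x = 0 := by linear_combination x * h2

/-- Isotropic orthogonal vectors are proportional. -/
lemma prop_of_orth (hF : Fintype.card F = q ^ 2) {v w : Fin 3 → F} (hv0 : v ≠ 0)
    (hv : hermForm 3 F q v v = 0) (hw : hermForm 3 F q w w = 0) (hvw : hermForm 3 F q v w = 0) :
    ∃ k : F, w = k • v := by
  by_contra! hne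
  set U := Submodule.span F ({v, w} : Set (Fin 3 → F))
  have hU : U ≤ perp q U := by
    rw [Submodule.span_le]
    intro x hx
    rw [SetLike.mem_coe, mem_perp_span hF]
    intro y hy
    rcases hx with rfl | rfl <;> rcases hy with rfl | rfl
    · exact hv
    · exact hvw
    · exact herm_eq_zero_symm hF hvw
    · exact hw
  have hU2 : 2 ≤ Module.finrank F U := by
    have hli : LinearIndependent F ![v, w] := by
      rw [LinearIndependent.pair_iff' hv0]
      intro b hb
      exact hne b hb.symm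
    have := finrank_span_eq_card hli
    rw [Fintype.card_fin, Matrix.range_cons_cons_empty] at this
    exact this.ge
  have := Submodule.finrank_mono hU
  have := finrank_perp hF U
  omega

/-- The parameter of an elation in the unitary group is self-conjugate. -/
lemma param_trace_zero (hF : Fintype.card F = q ^ 2) {g : GL (Fin 3) F} (hg : g ∈ GU 3 F q) {v : Fin 3 → F}
    (hv0 : v ≠ 0) (hv : hermForm 3 F q v v = 0) {c : F} (h : TvElt q v c g) : c + c ^ q = 0 := by
  obtain ⟨f, hf⟩ := exists_hyp hF hv0 hv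
  have e := mem_GU_iff.mp hg f f
  rw [h f, herm_add_left, herm_add_right _ _ _ hF, herm_add_right _ _ _ hF, herm_smul_left, herm_smul_left,
    herm_smul_right, herm_smul_right, hv, hf.2.2, hf.symm' hF, mul_one, mul_one] at e
  linear_combination e

lemma param_real (hF : Fintype.card F = q ^ 2) (h2 : (2 : F) = 0) {g : GL (Fin 3) F} (hg : g ∈ GU 3 F q)
    {v : Fin 3 → F} (hv0 : v ≠ 0) (hv : hermForm 3 F q v v = 0) {c : F} (h : TvElt q v c g) : c ^ q = c := by
  linear_combination param_trace_zero hF hg hv0 hv h - c * h2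

lemma TvElt.mul {v : Fin 3 → F} {c d : F} {g g' : GL (Fin 3) F} (hv : hermForm 3 F q v v = 0)
    (h : TvElt q v c g) (h' : TvElt q v d g') : TvElt q v (c + d) (g * g') := by
  intro x
  rw [Units.val_mul, ← Matrix.mulVec_mulVec, h' x, Matrix.mulVec_add, Matrix.mulVec_smul, h v, hv, mul_zero,
    zero_smul, add_zero, h x, add_mul, add_smul, add_assoc]

lemma TvElt.scale {v : Fin 3 → F} {c l : F} {g : GL (Fin 3) F} :
    TvElt q (l • v) c g ↔ TvElt q v (c * (l * l ^ q)) g := by
  refine forall_congr' fun x => ?_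
  rw [herm_smul_right, smul_smul]
  constructor <;> intro h <;> rw [h] <;> congr 2 <;> ring

lemma TvElt.one (v : Fin 3 → F) : TvElt q v 0 (1 : GL (Fin 3) F) := fun x => by simp

lemma TvElt.conj {v : Fin 3 → F} {c : F} {g t : GL (Fin 3) F} (hg : g ∈ GU 3 F q) (h : TvElt q v c t) :
    TvElt q (g.val *ᵥ v) c (g * t * g⁻¹) := by
  intro x
  rw [Units.val_mul, Units.val_mul, ← Matrix.mulVec_mulVec, ← Matrix.mulVec_mulVec, h, Matrix.mulVec_add,
    Matrix.mulVec_smul, mulVec_inv_cancel]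
  congr 3
  rw [← mem_GU_iff.mp hg ((g⁻¹).val *ᵥ x) v, mulVec_inv_cancel]

lemma TvElt.eq {v : Fin 3 → F} {c : F} {g g' : GL (Fin 3) F} (h : TvElt q v c g) (h' : TvElt q v c g') : g = g' :=
  Units.ext (Matrix.ext_of_mulVec_single fun i => (h _).trans (h' _).symm)

lemma TvElt.fix {v : Fin 3 → F} {c : F} {g : GL (Fin 3) F} (h : TvElt q v c g) {x : Fin 3 → F}
    (hx : hermForm 3 F q x v = 0) : g.val *ᵥ x = x := by
  rw [h x, hx, mul_zero, zero_smul, add_zero]

lemma TvElt.param_unique (hF : Fintype.card F = q ^ 2) {v : Fin 3 → F} (hv0 : v ≠ 0) {c d : F}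
    {g : GL (Fin 3) F} (h : TvElt q v c g) (h' : TvElt q v d g) : c = d := by
  obtain ⟨x, hx⟩ := exists_pairing hF hv0
  have e := (h x).symm.trans (h' x)
  rw [add_right_inj] at e
  exact mul_right_cancel₀ hx (smul_left_injective F hv0 e)

lemma TvElt.centre_unique (hF : Fintype.card F = q ^ 2) {v w : Fin 3 → F} (hv0 : v ≠ 0) {c d : F} (hc : c ≠ 0)
    {g : GL (Fin 3) F} (h : TvElt q v c g) (h' : TvElt q w d g) : ∃ k : F, v = k • w := by
  obtain ⟨x, hx⟩ := exists_pairing hF hv0
  have e := (h x).symm.trans (h' x)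
  rw [add_right_inj] at e
  refine ⟨(c * hermForm 3 F q x v)⁻¹ * (d * hermForm 3 F q x w), ?_⟩
  rw [mul_smul, ← e, inv_smul_smul₀ (mul_ne_zero hc hx)]

lemma TvElt.sq (h2 : (2 : F) = 0) {v : Fin 3 → F} {c : F} {g : GL (Fin 3) F} (hv : hermForm 3 F q v v = 0)
    (h : TvElt q v c g) : g * g = 1 := by
  have e := TvElt.mul hv h h
  rw [add_self_eq h2] at e
  exact TvElt.eq e (TvElt.one v)

/-- Commuting elations have orthogonal centres. -/
lemma commute_centre (hF : Fintype.card F = q ^ 2) {g t : GL (Fin 3) F} (hg : g ∈ GU 3 F q) {a w : Fin 3 → F}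
    {α c : F} (hw0 : w ≠ 0) (hc : c ≠ 0) (hα : α ≠ 0) (ha : hermForm 3 F q a a = 0)
    (hw : hermForm 3 F q w w = 0) (hga : TvElt q a α g) (htw : TvElt q w c t) (hcomm : g * t = t * g) :
    hermForm 3 F q w a = 0 := by
  have hgw0 : g.val *ᵥ w ≠ 0 := fun h0 => hw0 (by rw [← inv_mulVec_cancel g w, h0, Matrix.mulVec_zero])
  have h1 : TvElt q (g.val *ᵥ w) c t := by
    have h := TvElt.conj hg htw
    rwa [hcomm, mul_inv_cancel_right] at h
  obtain ⟨k, hk⟩ := TvElt.centre_unique hF hgw0 hc h1 htw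
  rw [hga] at hk
  have e := congrArg (fun y => hermForm 3 F q y w) hk
  simp only [herm_add_left, herm_smul_left, hw, mul_zero, zero_add] at e
  rcases mul_eq_zero.mp e with e | e
  · exact (mul_eq_zero.mp e).resolve_left hα
  · exact herm_eq_zero_symm hF e

/-- Involutions are elations. -/
lemma exists_tv_of_invol (hF : Fintype.card F = q ^ 2) (h2 : (2 : F) = 0) {g : GL (Fin 3) F}
    (hg : g ∈ GU 3 F q) (hsq : g * g = 1) (hne : g ≠ 1) :
    ∃ (v : Fin 3 → F) (c : F), v ≠ 0 ∧ c ≠ 0 ∧ hermForm 3 F q v v = 0 ∧ TvElt q v c g := by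
  let N : (Fin 3 → F) →ₗ[F] (Fin 3 → F) := Matrix.toLin' g.val + LinearMap.id
  have hN : ∀ x, N x = g.val *ᵥ x + x := fun x => by simp [N]
  have hgg : ∀ x, g.val *ᵥ (g.val *ᵥ x) = x := fun x => by
    rw [Matrix.mulVec_mulVec, ← Units.val_mul, hsq, Units.val_one, Matrix.one_mulVec]
  have hv2 : ∀ x : Fin 3 → F, x + x = 0 := fun x => funext fun i => add_self_eq h2 _
  have hNN : ∀ x, N (N x) = 0 := by
    intro x
    rw [hN, hN, Matrix.mulVec_add, hgg]
    calc x + g.val *ᵥ x + (g.val *ᵥ x + x) = (x + x) + (g.val *ᵥ x + g.val *ᵥ x) := by abel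
      _ = 0 := by rw [hv2, hv2, add_zero]
  have hadj : ∀ x y, hermForm 3 F q (N x) y = hermForm 3 F q x (N y) := by
    intro x y
    rw [hN, hN, herm_add_left, herm_add_right _ _ _ hF]
    have e := mem_GU_iff.mp hg x (g.val *ᵥ y)
    rw [hgg] at e
    rw [e]
  have hiso : ∀ x y, hermForm 3 F q (N x) (N y) = 0 := fun x y => by
    rw [hadj, hNN]; exact herm_zero_right _ hF
  set W := LinearMap.range N with hW
  have hWp : W ≤ perp q W := by
    rintro _ ⟨x, rfl⟩ _ ⟨y, rfl⟩
    exact hiso x y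
  have hW1 : Module.finrank F W ≤ 1 := by
    have h1 := Submodule.finrank_mono hWp
    have h2' := finrank_perp hF W
    omega
  have hW0 : W ≠ ⊥ := by
    intro hb
    refine hne (Units.ext (Matrix.ext_of_mulVec_single fun i => ?_))
    have h : N (Pi.single i 1) = 0 := by
      rw [← Submodule.mem_bot (R := F), ← hb]
      exact ⟨_, rfl⟩
    rw [hN, add_eq_zero_iff_eq_neg] at h
    rw [h, Units.val_one, Matrix.one_mulVec, ← sub_eq_zero, sub_eq_add_neg, ← neg_add, hv2, neg_zero]
  obtain ⟨v, hvW, hv0⟩ := Submodule.exists_mem_ne_zero_of_ne_bot hW0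
  have hspan : W = Submodule.span F {v} := (Submodule.eq_of_le_of_finrank_le
    ((Submodule.span_singleton_le_iff_mem _ _).mpr hvW) (by rw [finrank_span_singleton hv0]; exact hW1)).symm
  have hvv : hermForm 3 F q v v = 0 := hWp hvW v hvW
  have hmult : ∀ x, ∃ l : F, N x = l • v := fun x => by
    have h : N x ∈ W := ⟨x, rfl⟩
    rw [hspan, Submodule.mem_span_singleton] at h
    obtain ⟨l, hl⟩ := h
    exact ⟨l, hl.symm⟩
  choose φ hφ using hmult
  obtain ⟨y, hy⟩ : ∃ y, hermForm 3 F q v y ≠ 0 := by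
    obtain ⟨x, hx⟩ := exists_pairing hF hv0
    exact ⟨x, fun h => hx (herm_eq_zero_symm hF h)⟩
  set c := φ y ^ q / hermForm 3 F q v y with hc
  have htv : TvElt q v c g := by
    intro x
    have e : φ x * hermForm 3 F q v y = φ y ^ q * hermForm 3 F q x v := by
      have h := hadj x y
      rwa [hφ, hφ, herm_smul_left, herm_smul_right] at h
    have h1 : g.val *ᵥ x = x + φ x • v := by
      rw [← hφ, hN, add_comm (g.val *ᵥ x) x, ← add_assoc, hv2, zero_add]
    rw [h1, hc, div_mul_eq_mul_div, ← e, mul_div_cancel_right₀ _ hy]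
  refine ⟨v, c, hv0, fun h0 => hne ?_, hvv, htv⟩
  rw [h0] at htv
  exact TvElt.eq htv (TvElt.one v)

end Cfsg.Agent.Lib.SU3Even96
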