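import Cfsg.Agent.Lib.SU3Even96.Pairs
import Cfsg.Agent.Lib.Unitary.Generation

set_option autoImplicit false
set_option linter.style.haveILetI false
set_option linter.unusedSectionVars false
set_option linter.unusedVariables false

/-!
`SU(3, q)`, `q` even, has no proper subgroup with a residual core.
-/

namespace Cfsg.Agent.Lib.SU3Even96

open Cfsg.Geo Cfsg.Agent.Lib.PrimeDim.Basic Cfsg.Agent.Lib.PrimeDim.Fields Cfsg.Agent.Lib.PrimeDim.Unitary
open Cfsg.Agent.Lib.PrimeDim.UnitaryBase Cfsg.Agent.Lib.PrimeDim.Symplectic Cfsg.Agent.Lib.Unitary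
open Cfsg.Agent.Lib.SU3Max96
open scoped Matrix MatrixGroups commutatorElement

variable {F : Type*} [Field F] [Fintype F] {q : ℕ} {P : Subgroup (GL (Fin 3) F)} {E : Subfield F}

/-- Commutators ignore central factors. -/
lemma commutator_central {G : Type*} [Group G] {a b z w : G} (hz : ∀ g, z * g = g * z) (hw : ∀ g, w * g = g * w) :
    ⁅a * z, b * w⁆ = ⁅a, b⁆ := by
  rw [commutatorElement_def, commutatorElement_def]
  calc a * z * (b * w) * (a * z)⁻¹ * (b * w)⁻¹ = a * (z * (b * w)) * z⁻¹ * a⁻¹ * w⁻¹ * b⁻¹ := by group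
    _ = a * b * (w * a⁻¹) * w⁻¹ * b⁻¹ := by rw [hz]; group
    _ = a * b * a⁻¹ * b⁻¹ := by rw [hw]; group

/-- Vectors are determined by their products with a basis. -/
lemma herm_nondeg_ext (hF : Fintype.card F = q ^ 2) {B : Fin 3 → Fin 3 → F} (hli : LinearIndependent F B)
    {u u' : Fin 3 → F} (h : (fun j => hermForm 3 F q u (B j)) = fun j => hermForm 3 F q u' (B j)) : u = u' := by
  have hspan := hli.span_eq_top_of_card_eq_finrank (by simp)
  rw [← sub_eq_zero]
  refine herm_nondeg_left hF fun v => ?_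
  have hv : v ∈ Submodule.span F (Set.range B) := hspan ▸ Submodule.mem_top
  induction hv using Submodule.span_induction with
  | mem v hv =>
    obtain ⟨j, rfl⟩ := hv
    rw [herm_sub_left, congrFun h j, sub_self]
  | zero => exact herm_zero_right _ hF
  | add x y _ _ hx hy => rw [herm_add_right _ _ _ hF, hx, hy, add_zero]
  | smul c x _ hx => rw [herm_smul_right, hx, mul_zero]

/-- The product of two tori on two pairs of centres is an elation. -/
lemma norm_mem_real (hF : Fintype.card F = q ^ 2) (h2 : (2 : F) = 0) (hP : P ≤ GU 3 F q)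
    {a b : Fin 3 → F} (ha : Nrm P q E a) (hb : Nrm P q E b) (hk : ∃ k ∈ E, k ≠ 0 ∧ k ≠ 1) {δ : F}
    (hδ : hermForm 3 F q a b = δ) (hδ0 : δ ≠ 0) (hδr : δ ^ q = δ) : δ * δ ∈ E := by
  obtain ⟨k, hkE, hk0, hk1⟩ := hk
  have hkr : k ^ q = k := Par.real hF h2 hP ha.1 ha.2.1 ((ha.2.2 k).mpr hkE)
  have h1 : ∀ {v : Fin 3 → F}, Nrm P q E v → Par P q v 1 := fun hv => (hv.2.2 1).mpr (one_mem E)
  have tor : ∀ b' : Fin 3 → F, Nrm P q E b' → ∀ δ' : F, hermForm 3 F q a b' = δ' → δ' ≠ 0 → δ' ^ q = δ' →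
      ∃ D ∈ P, D.val *ᵥ a = k⁻¹ • a ∧ D.val *ᵥ b' = k • b' ∧
        ∀ x, hermForm 3 F q x a = 0 → hermForm 3 F q x b' = 0 → D.val *ᵥ x = x := by
    intro b' hb' δ' hd hd0 hdr
    have hkk : k * k ≠ 0 := mul_ne_zero hk0 hk0
    have hab : hermForm 3 F q a b' ≠ 0 := hd ▸ hd0
    have real : ∀ (r : GL (Fin 3) F) (l : F), r ∈ P → l ≠ 0 → r.val *ᵥ a = l • b' → r.val *ᵥ b' = l⁻¹ • a →
        l ^ q = l := by
      intro r l hr hl ea eb
      have e := herm_image hP hr a b'
      rw [ea, eb, herm_smul_left, herm_smul_right, ← herm_conj hF (u := a) (v := b'), hd, hdr, inv_pow,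
        ← mul_assoc] at e
      have e' : l * (l ^ q)⁻¹ = 1 := mul_right_cancel₀ hd0 (by rw [one_mul]; exact e)
      rwa [mul_inv_eq_one₀ (pow_ne_zero q hl), eq_comm] at e'
    obtain ⟨r₁, hr₁, l, hl0, e1a, e1b, hl, f1⟩ :=
      exists_swap hF h2 hP hab ha.2.1 hb'.2.1 one_ne_zero one_ne_zero (h1 ha) (h1 hb')
    have hl1 : l = 1 := by
      rw [real r₁ l hr₁ hl0 e1a e1b, one_mul] at hl
      exact sq_inj h2 (by rw [hl, mul_one])
    obtain ⟨r₂, hr₂, m, hm0, e2a, e2b, hm, f2⟩ :=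
      exists_swap hF h2 hP hab ha.2.1 hb'.2.1 one_ne_zero hkk (h1 ha) ((hb'.2.2 _).mpr (mul_mem hkE hkE))
    have hmk : m = k := by
      rw [real r₂ m hr₂ hm0 e2a e2b, one_mul] at hm
      exact sq_inj h2 hm
    rw [hl1, one_smul] at e1a
    rw [hl1, inv_one, one_smul] at e1b
    rw [hmk] at e2a e2b
    refine ⟨r₂ * r₁, mul_mem hr₂ hr₁, ?_, ?_, fun x hxa hxb => ?_⟩
    · rw [Units.val_mul, ← Matrix.mulVec_mulVec, e1a, e2b]
    · rw [Units.val_mul, ← Matrix.mulVec_mulVec, e1b, e2a]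
    · rw [Units.val_mul, ← Matrix.mulVec_mulVec, f1 x hxa hxb, f2 x hxa hxb]
  have hba : hermForm 3 F q b a = δ := by rw [← herm_conj hF (u := a) (v := b), hδ, hδr]
  obtain ⟨D, hD, hDa, hDb, hDf⟩ := tor b hb δ hδ hδ0 hδr
  obtain ⟨t, ht, htb⟩ := h1 hb
  set v := a + δ • b with hv
  have htv : t.val *ᵥ a = v := by rw [htb a, one_mul, hδ]
  have hvN : Nrm P q E v := htv ▸ ha.image hP ht
  have hav : hermForm 3 F q a v = δ * δ := by
    rw [hv, herm_add_right _ _ _ hF, herm_smul_right, ha.2.1, zero_add, hδr, hδ]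
  obtain ⟨D', hD', hDa', hDv', hDf'⟩ :=
    tor v hvN (δ * δ) hav (mul_ne_zero hδ0 hδ0) (by rw [mul_pow, hδr])
  have hDi : ∀ {x y : Fin 3 → F}, D.val *ᵥ x = y → (D⁻¹).val *ᵥ y = x := fun h => by
    rw [← h, inv_mulVec_cancel]
  have hDia : (D⁻¹).val *ᵥ a = k • a := by
    have h := hDi hDa
    rw [Matrix.mulVec_smul] at h
    calc (D⁻¹).val *ᵥ a = k • (k⁻¹ • (D⁻¹).val *ᵥ a) := by rw [smul_inv_smul₀ hk0]
      _ = k • a := by rw [h]
  have hDib : (D⁻¹).val *ᵥ b = k⁻¹ • b := by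
    have h := hDi hDb
    rw [Matrix.mulVec_smul] at h
    calc (D⁻¹).val *ᵥ b = k⁻¹ • (k • (D⁻¹).val *ᵥ b) := by rw [inv_smul_smul₀ hk0]
      _ = k⁻¹ • b := by rw [h]
  have hgb : k⁻¹ • D'.val *ᵥ b = b + ((1 + k⁻¹ * k⁻¹) / δ) • a := by
    have h := hDv'
    rw [hv, Matrix.mulVec_add, Matrix.mulVec_smul, hDa'] at h
    have e : D'.val *ᵥ b = δ⁻¹ • (k • (a + δ • b) - k⁻¹ • a) := by
      rw [← h, add_sub_cancel_left, inv_smul_smul₀ hδ0]
    rw [e]
    funext i
    simp only [Pi.smul_apply, Pi.add_apply, Pi.sub_apply, smul_eq_mul]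
    field_simp
    linear_combination (-(a i)) * h2
  set c := (1 + k⁻¹ * k⁻¹) / (δ * δ) with hc
  have htv' : TvElt q a c (D' * D⁻¹) := by
    intro x
    set z := x - (hermForm 3 F q x b / δ) • a - (hermForm 3 F q x a / δ) • b with hz
    have hza : hermForm 3 F q z a = 0 := by
      rw [hz, herm_sub_left, herm_sub_left, herm_smul_left, herm_smul_left, ha.2.1, hba]
      field_simp
      ring
    have hzb : hermForm 3 F q z b = 0 := by
      rw [hz, herm_sub_left, herm_sub_left, herm_smul_left, herm_smul_left, hb.2.1, hδ]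
      field_simp
      ring
    have hzv : hermForm 3 F q z v = 0 := by
      rw [hv, herm_add_right _ _ _ hF, herm_smul_right, hza, hzb, mul_zero, add_zero]
    have hgz : (D' * D⁻¹).val *ᵥ z = z := by
      rw [Units.val_mul, ← Matrix.mulVec_mulVec, hDi (hDf z hza hzb), hDf' z hza hzv]
    have hga : (D' * D⁻¹).val *ᵥ a = a := by
      rw [Units.val_mul, ← Matrix.mulVec_mulVec, hDia, Matrix.mulVec_smul, hDa', smul_inv_smul₀ hk0]
    have hgb' : (D' * D⁻¹).val *ᵥ b = b + ((1 + k⁻¹ * k⁻¹) / δ) • a := by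
      rw [Units.val_mul, ← Matrix.mulVec_mulVec, hDib, Matrix.mulVec_smul, hgb]
    have hx : x = z + (hermForm 3 F q x b / δ) • a + (hermForm 3 F q x a / δ) • b := by rw [hz]; abel
    conv_lhs => rw [hx, Matrix.mulVec_add, Matrix.mulVec_add, Matrix.mulVec_smul, Matrix.mulVec_smul,
      hgz, hga, hgb']
    rw [hz, hc]
    funext i
    simp only [Pi.smul_apply, Pi.add_apply, Pi.sub_apply, smul_eq_mul]
    field_simp
    ring
  have hcE : c ∈ E := (ha.2.2 c).mp ⟨_, mul_mem hD' (inv_mem hD), htv'⟩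
  have hn : 1 + k⁻¹ * k⁻¹ ≠ 0 := by
    intro h0
    have : k⁻¹ = 1 := sq_inj h2 (by linear_combination h0 - h2)
    exact hk1 (by rw [← inv_inv k, this, inv_one])
  have hkkE : 1 + k⁻¹ * k⁻¹ ∈ E := add_mem (one_mem E) (mul_mem (inv_mem hkE) (inv_mem hkE))
  have := div_mem hkkE hcE
  rwa [hc, div_div_cancel₀ hn] at this

/-- The norms of the products of normalised centres lie in the field of parameters. -/
lemma norm_mem (hF : Fintype.card F = q ^ 2) (h2 : (2 : F) = 0) (hP : P ≤ GU 3 F q)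
    {a b : Fin 3 → F} (ha : Nrm P q E a) (hb : Nrm P q E b) (hk : ∃ k ∈ E, k ≠ 0 ∧ k ≠ 1) :
    hermForm 3 F q a b * hermForm 3 F q a b ^ q ∈ E := by
  set η := hermForm 3 F q a b with hη
  rcases eq_or_ne η 0 with h0 | h0
  · rw [h0, zero_mul]; exact zero_mem E
  obtain ⟨δ, hδ⟩ := exists_sqrt h2 (η * η ^ q)
  have hδ0 : δ ≠ 0 := fun h => norm_ne_zero h0 (by rw [← hδ, h, zero_mul])
  have hδr : δ ^ q = δ := sq_inj h2 (by rw [← mul_pow, hδ, mul_pow, pow_q_q hF, mul_comm])
  have hl : (δ / η) ^ q * (δ / η) ^ q ^ 2 = 1 := by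
    rw [pow_two, pow_mul, pow_q_q hF, div_pow, hδr, div_mul_div_comm, mul_comm (η ^ q) η, hδ,
      div_self (norm_ne_zero h0)]
  set l := (δ / η) ^ q with hldef
  have hl' : l * l ^ q = 1 := by rw [hldef, ← pow_mul, ← pow_two]; exact hl
  have hl0 : l ≠ 0 := fun h => one_ne_zero (α := F) (by rw [← hl', h, zero_mul])
  have hbl : Nrm P q E (l • b) := hb.smul hl0 (by rw [hl']; exact one_mem E)
  have hd : hermForm 3 F q a (l • b) = δ := by
    rw [herm_smul_right, hldef, pow_q_q hF, ← hη, div_mul_cancel₀ _ h0]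
  rw [← hδ]
  exact norm_mem_real hF h2 hP ha hbl hk hd hδ0 hδr

/-- The triangle products lie in the quadratic extension of the field of parameters. -/
lemma triangle (hF : Fintype.card F = q ^ 2) (h2 : (2 : F) = 0) (hP : P ≤ GU 3 F q)
    {E2 : Subfield F} (hEE : ∀ x : F, ∀ t ∈ E, ∀ n ∈ E, x * x + t * x + n = 0 → x ∈ E2)
    {a b c : Fin 3 → F} (ha : Nrm P q E a) (hb : Nrm P q E b) (hc : Nrm P q E c)
    (hk : ∃ k ∈ E, k ≠ 0 ∧ k ≠ 1) :
    hermForm 3 F q a b * hermForm 3 F q b c * hermForm 3 F q c a ∈ E2 := by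
  obtain ⟨t, ht, hta⟩ := (ha.2.2 1).mpr (one_mem E)
  have hb' : Nrm P q E (t.val *ᵥ b) := hb.image hP ht
  have e1 := norm_mem hF h2 hP hb' hc hk
  rw [hta b, one_mul, herm_add_left, herm_smul_left, add_pow_q hF, mul_pow] at e1
  set τ := hermForm 3 F q a b * hermForm 3 F q b c * hermForm 3 F q c a with hτ
  have cab : hermForm 3 F q a b = hermForm 3 F q b a ^ q := (herm_conj _ _ hF).symm
  have cca : hermForm 3 F q c a = hermForm 3 F q a c ^ q := (herm_conj _ _ hF).symm
  have hsum : τ + τ ^ q ∈ E := by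
    have e2 := norm_mem hF h2 hP hb hc hk
    have e3 := mul_mem (norm_mem hF h2 hP hb ha hk) (norm_mem hF h2 hP ha hc hk)
    have := sub_mem e1 (add_mem e2 e3)
    convert this using 1
    rw [hτ, cab, cca]
    simp only [mul_pow, pow_q_q hF]
    ring
  have hnorm : τ * τ ^ q ∈ E := by
    have := mul_mem (mul_mem (norm_mem hF h2 hP ha hb hk) (norm_mem hF h2 hP hb hc hk))
      (norm_mem hF h2 hP hc ha hk)
    convert this using 1
    rw [hτ]
    simp only [mul_pow]
    ring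
  refine hEE τ (τ + τ ^ q) hsum (τ * τ ^ q) hnorm ?_
  linear_combination (τ * τ + τ * τ ^ q) * h2

/-- A residual core has parameters in all fixed elements. -/
theorem field_full (hF : Fintype.card F = q ^ 2) (h2 : (2 : F) = 0) {X : Subgroup (GL (Fin 3) F)}
    (hX : X ≤ GU 3 F q) (hcore : IsResidualCore X P) {a : Fin 3 → F} (ha : Nrm P q E a)
    (hk : ∃ k ∈ E, k ≠ 0 ∧ k ≠ 1) (hall : ∀ d, Centre P q d → ∃ l : F, l ≠ 0 ∧ Nrm P q E (l • d)) :
    ∀ x : F, x ^ q = x → x ∈ E := by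
  classical
  by_contra hne
  push Not at hne
  obtain ⟨x₀, hx₀, hx₀E⟩ := hne
  have hP : P ≤ GU 3 F q := hcore.le.trans hX
  have habs := hcore.absIrred
  obtain ⟨p, f, _, _, hf, hFp⟩ := exists_char_card (F := F)
  obtain ⟨e, he, hdvd, hcard, hEfix⟩ := card_subfield E hFp
  have hEle : E ≤ fixed hF := fun x hx => Par.real hF h2 hP ha.1 ha.2.1 ((ha.2.2 x).mpr hx)
  have hlt : p ^ e < q := by
    rw [← hcard, ← card_fixed' hF]
    refine Nat.lt_of_le_of_ne (Nat.card_le_card_of_injective (Set.inclusion hEle) (Set.inclusion_injective hEle)) ?_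
    intro heq
    have hset : (E : Set F) = (fixed hF : Set F) :=
      Set.eq_of_subset_of_ncard_le hEle (by rw [← Nat.card_coe_set_eq, ← Nat.card_coe_set_eq]; exact heq.ge)
    exact hx₀E (show x₀ ∈ (E : Set F) from hset ▸ hx₀)
  set E2 := fixedField (F := F) p (2 * e) with hE2
  have hE2top : E2 ≠ ⊤ := by
    intro htop
    have h1 : Nat.card {x : F // x ^ p ^ (2 * e) = x} = Fintype.card F := by
      rw [← Nat.card_eq_fintype_card]
      refine Nat.card_congr (Equiv.subtypeUnivEquiv fun x => ?_)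
      exact mem_fixedField.mp (show x ∈ E2 from htop ▸ Subfield.mem_top x)
    have hp2 : 2 ≤ p ^ e := le_trans (Fact.out : p.Prime).two_le (Nat.le_self_pow he.ne' p)
    have h2' := card_pow_eq_self_le (F := F) (k := p ^ (2 * e))
      (le_trans (Fact.out : p.Prime).two_le (Nat.le_self_pow (by omega) p))
    rw [h1, hF, mul_comm 2 e, pow_mul] at h2'
    exact absurd h2' (not_le.mpr (Nat.pow_lt_pow_left hlt two_ne_zero))
  have hσE : ∀ x ∈ E, x ^ p ^ e = x := fun x hx => mem_fixedField.mp (hEfix ▸ hx)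
  have hEE2 : E ≤ E2 := fun x hx => by
    rw [hE2, mem_fixedField, two_mul, pow_add, pow_mul, hσE x hx, hσE x hx]
  have hEE : ∀ x : F, ∀ t ∈ E, ∀ n ∈ E, x * x + t * x + n = 0 → x ∈ E2 := by
    intro x t ht n hn h
    rw [hE2, mem_fixedField, two_mul, pow_add, pow_mul]
    have h' := congrArg (frob p e) h
    simp only [map_add, map_mul, map_zero, frob_apply, hσE t ht, hσE n hn] at h'
    set y := x ^ p ^ e with hy
    have : (y + x) * (y + x + t) = 0 := by linear_combination h + h' + (y * x - n) * h2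
    rcases mul_eq_zero.mp this with h1 | h1
    · have hyx : y = x := by linear_combination h1 - x * h2
      rw [hyx, ← hy, hyx]
    · have hyx : y = x + t := by linear_combination h1 - (x + t) * h2
      show y ^ p ^ e = x
      rw [hyx, ← frob_apply, map_add, frob_apply, frob_apply, ← hy, hσE t ht, hyx]
      linear_combination t * h2
  have hqE2 : ∀ x ∈ E2, x ^ q ∈ E2 := fun x hx => pow_mem hx q
  -- normalised centres rational with respect to `a`
  let S : Set (Fin 3 → F) :=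
    {d | Nrm P q E d ∧ (d = a ∨ (hermForm 3 F q d a ∈ E2 ∧ hermForm 3 F q d a ≠ 0))}
  have haS : a ∈ S := ⟨ha, Or.inl rfl⟩
  have hS : ∀ d, Centre P q d → ∃ l : F, l ≠ 0 ∧ l • d ∈ S := by
    intro d hd
    by_cases hda : hermForm 3 F q a d = 0
    · obtain ⟨k, hk'⟩ := prop_of_orth hF ha.1 ha.2.1 hd.2.1 hda
      have hk0 : k ≠ 0 := fun h => hd.1 (by rw [hk', h, zero_smul])
      exact ⟨k⁻¹, inv_ne_zero hk0, by rw [hk', inv_smul_smul₀ hk0]; exact haS⟩
    obtain ⟨l, hl0, hl⟩ := hall d hd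
    set η := hermForm 3 F q (l • d) a with hη
    have hη0 : η ≠ 0 := by
      rw [hη, herm_smul_left]
      exact mul_ne_zero hl0 fun h => hda (herm_eq_zero_symm hF h)
    have hN := norm_mem hF h2 hP hl ha hk
    rw [← hη] at hN
    refine ⟨η ^ q * l, mul_ne_zero (pow_ne_zero q hη0) hl0, ?_, Or.inr ?_⟩
    · rw [mul_smul]
      exact hl.smul (pow_ne_zero q hη0) (by rw [pow_q_q hF, mul_comm]; exact hN)
    · rw [mul_smul, herm_smul_left, ← hη, mul_comm]
      exact ⟨hEE2 hN, norm_ne_zero hη0⟩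
  have hSa : ∀ d ∈ S, hermForm 3 F q d a ∈ E2 := fun d hd => by
    rcases hd.2 with rfl | h
    · rw [ha.2.1]; exact zero_mem E2
    · exact h.1
  have hSS : ∀ d ∈ S, ∀ d' ∈ S, hermForm 3 F q d d' ∈ E2 := by
    intro d hd d' hd'
    rcases hd.2 with rfl | ⟨h1, h1'⟩
    · rw [← herm_conj _ _ hF]; exact hqE2 _ (hSa d' hd')
    rcases hd'.2 with rfl | ⟨h3, h3'⟩
    · exact h1
    have had : hermForm 3 F q a d ≠ 0 := fun h => h1' (herm_eq_zero_symm hF h)
    have hadE : hermForm 3 F q a d ∈ E2 := by rw [← herm_conj _ _ hF]; exact hqE2 _ h1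
    have ht := div_mem (div_mem (triangle hF h2 hP hEE ha hd.1 hd'.1 hk) h3) hadE
    rwa [mul_div_cancel_right₀ _ h3', mul_div_cancel_left₀ _ had] at ht
  -- the subgroup generated by the elations
  let T : Set (GL (Fin 3) F) := {g | g ∈ P ∧ g * g = 1 ∧ g ≠ 1}
  let K := Subgroup.closure T
  have hKP : K ≤ P := (Subgroup.closure_le _).mpr fun g hg => hg.1
  let L := Submodule.span E2 S
  have hinvT : ∀ g ∈ T, g⁻¹ = g := fun g hg => inv_eq_of_mul_eq_one_right hg.2.1
  have hKL : ∀ g ∈ K, ∀ v ∈ L, g.val *ᵥ v ∈ L ∧ (g⁻¹).val *ᵥ v ∈ L := by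
    intro g hg
    induction hg using Subgroup.closure_induction with
    | mem g hg =>
      have hmain : ∀ v ∈ L, g.val *ᵥ v ∈ L := by
        obtain ⟨w, c, hw0, hc, hw, hgw⟩ := exists_tv_of_invol hF h2 (hP hg.1) hg.2.1 hg.2.2
        obtain ⟨l, hl0, hlS⟩ := hS w ⟨hw0, hw, c, hc, g, hg.1, hgw⟩
        set d := l • w with hd
        have hgd : TvElt q d (c / (l * l ^ q)) g := by
          rw [hd, TvElt.scale, div_mul_cancel₀ _ (norm_ne_zero hl0)]; exact hgw
        have hcE : c / (l * l ^ q) ∈ E := (hlS.1.2.2 _).mp ⟨g, hg.1, hgd⟩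
        intro v hv
        induction hv using Submodule.span_induction with
        | mem v hv =>
          rw [hgd v]
          refine add_mem (Submodule.subset_span hv) ?_
          exact L.smul_mem (⟨_, mul_mem (hEE2 hcE) (hSS v hv d hlS)⟩ : E2) (Submodule.subset_span hlS)
        | zero => rw [Matrix.mulVec_zero]; exact zero_mem _
        | add u w _ _ hu hw => rw [Matrix.mulVec_add]; exact add_mem hu hw
        | smul r u _ hu =>
          show g.val *ᵥ ((r : F) • u) ∈ L
          rw [Matrix.mulVec_smul]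
          exact L.smul_mem r hu
      intro v hv
      exact ⟨hmain v hv, by rw [hinvT g hg]; exact hmain v hv⟩
    | one => intro v hv; simp [hv]
    | mul g g' _ _ h h' =>
      intro v hv
      rw [mul_inv_rev, Units.val_mul, Units.val_mul, ← Matrix.mulVec_mulVec, ← Matrix.mulVec_mulVec]
      exact ⟨(h _ (h' v hv).1).1, (h' _ (h v hv).2).2⟩
    | inv g _ h => intro v hv; rw [inv_inv]; exact ⟨(h v hv).2, (h v hv).1⟩
  have hLE : ∀ v ∈ L, ∀ d ∈ S, hermForm 3 F q v d ∈ E2 := by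
    intro v hv d hd
    induction hv using Submodule.span_induction with
    | mem v hv => exact hSS v hv d hd
    | zero => rw [herm_zero_left]; exact zero_mem _
    | add u w _ _ hu hw => rw [herm_add_left]; exact add_mem hu hw
    | smul r u _ hu =>
      show hermForm 3 F q ((r : F) • u) d ∈ E2
      rw [herm_smul_left]; exact mul_mem r.2 hu
  -- a basis of normalised centres
  obtain ⟨b₀, hb₀, hb₀n⟩ := exists_centre_notMem hP habs ha.centre (W := Submodule.span F {a}) (fun h => by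
    have := congrArg (fun W : Submodule F (Fin 3 → F) => Module.finrank F W) h
    rw [finrank_span_singleton ha.1, finrank_top, Module.finrank_fin_fun] at this
    omega)
  obtain ⟨c₀, hc₀, hc₀n⟩ := exists_centre_notMem hP habs ha.centre (W := Submodule.span F {b₀, a}) (fun h => by
    have h1 := finrank_span_finset_le_card (R := F) ({b₀, a} : Finset (Fin 3 → F))
    rw [Set.finrank, Finset.coe_insert, Finset.coe_singleton, h, finrank_top, Module.finrank_fin_fun] at h1
    exact absurd (h1.trans Finset.card_le_two) (by norm_num))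
  obtain ⟨lb, hlb, hbS⟩ := hS b₀ hb₀
  obtain ⟨lc, hlc, hcS⟩ := hS c₀ hc₀
  set B : Fin 3 → Fin 3 → F := ![lc • c₀, lb • b₀, a] with hB
  have hBS : ∀ j, B j ∈ S := by intro j; fin_cases j <;> simp [hB, hcS, hbS, haS]
  have hli : LinearIndependent F B := by
    refine linearIndependent_finCons.mpr ⟨linearIndependent_finCons.mpr ⟨?_, ?_⟩, ?_⟩
    · rw [linearIndependent_unique_iff]; exact ha.1
    · intro h
      rw [Matrix.range_cons, Matrix.range_empty, Set.union_empty] at h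
      exact hb₀n (by rw [← inv_smul_smul₀ hlb b₀]; exact Submodule.smul_mem _ _ h)
    · intro h
      rw [Matrix.range_cons_cons_empty] at h
      refine hc₀n ?_
      rw [← inv_smul_smul₀ hlc c₀]
      refine Submodule.smul_mem _ _ ?_
      have hsub : Submodule.span F {lb • b₀, a} ≤ Submodule.span F {b₀, a} := by
        rw [Submodule.span_le]
        rintro x (rfl | rfl)
        · exact Submodule.smul_mem _ _ (Submodule.subset_span (by simp))
        · exact Submodule.subset_span (by simp)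
      exact hsub h
  set M : Matrix (Fin 3) (Fin 3) F := Matrix.of fun i j => B j i with hM
  have hMu : IsUnit M := by
    rw [← Matrix.linearIndependent_cols_iff_isUnit]
    exact hli
  obtain ⟨U, hU⟩ := hMu
  set G : Matrix (Fin 3) (Fin 3) F := Matrix.of fun i j => hermForm 3 F q (B i) (B j) with hG
  let G₀ : Matrix (Fin 3) (Fin 3) E2 := Matrix.of fun i j => ⟨G i j, hSS _ (hBS i) _ (hBS j)⟩
  have hG0 : G = G₀.map E2.subtype := rfl
  have hGv : ∀ r : Fin 3 → F, (fun j => hermForm 3 F q (M *ᵥ r) (B j)) = r ᵥ* G := by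
    intro r
    funext j
    have e : M *ᵥ r = ∑ i, r i • B i := by
      funext k
      simp [hM, Matrix.mulVec, dotProduct, mul_comm]
    rw [e, herm_sum_left]
    simp only [herm_smul_left, Matrix.vecMul, dotProduct, hG, Matrix.of_apply]
  have hGunit : IsUnit G := by
    rw [← Matrix.vecMul_injective_iff_isUnit]
    intro r r' h
    simp only [← hGv] at h
    refine Matrix.mulVec_injective_of_isUnit ⟨U, hU⟩ (herm_nondeg_ext hF hli h)
  have hG0unit : IsUnit G₀ := by
    rw [Matrix.isUnit_iff_isUnit_det] at hGunit ⊢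
    rw [isUnit_iff_ne_zero] at hGunit ⊢
    intro h
    apply hGunit
    rw [hG0, ← RingHom.mapMatrix_apply, ← RingHom.map_det, h, map_zero]
  have hcoord : ∀ v ∈ L, ∀ i, ((U⁻¹).val *ᵥ v) i ∈ E2 := by
    intro v hv i
    have h1 : ((U⁻¹).val *ᵥ v) ᵥ* G = fun j => hermForm 3 F q v (B j) := by
      rw [← hGv, ← hU, mulVec_inv_cancel]
    obtain ⟨G', hG'⟩ := hG0unit
    have h3 : G * G'⁻¹.val.map E2.subtype = 1 := by
      rw [hG0, ← hG', ← Matrix.map_mul, Units.mul_inv, Matrix.map_one _ (map_zero _) (map_one _)]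
    have h4 := congrArg (fun w => w ᵥ* G'⁻¹.val.map E2.subtype) h1
    simp only [Matrix.vecMul_vecMul, h3, Matrix.vecMul_one] at h4
    rw [h4]
    simp only [Matrix.vecMul, dotProduct]
    exact sum_mem fun j _ => mul_mem (hLE v hv _ (hBS j)) (SetLike.coe_mem _)
  have hKreal : RealisableOver E2 (matrixSet K) := by
    refine ⟨U⁻¹, fun s hs i j => ?_⟩
    obtain ⟨g, hg, rfl⟩ := mem_matrixSet.mp hs
    rw [inv_inv]
    have e : ((U⁻¹).val * g.val * U.val) i j = ((U⁻¹).val *ᵥ (g.val *ᵥ B j)) i := by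
      rw [Matrix.mulVec_mulVec, Matrix.mul_apply, hU]
      rfl
    rw [e]
    exact hcoord _ (hKL g hg _ (Submodule.subset_span (hBS j))).1 i
  -- it is all of `P`
  have hKn : ∀ x ∈ P, ∀ g ∈ K, x * g * x⁻¹ ∈ K := by
    intro x hx g hg
    induction hg using Subgroup.closure_induction with
    | mem g hg =>
      refine Subgroup.subset_closure ⟨mul_mem (mul_mem hx hg.1) (inv_mem hx), ?_, ?_⟩
      · rw [show x * g * x⁻¹ * (x * g * x⁻¹) = x * (g * g) * x⁻¹ by group, hg.2.1, mul_one, mul_inv_cancel]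
      · exact fun h => hg.2.2 (conj_eq_one_iff.mp h)
    | one => rw [mul_one, mul_inv_cancel]; exact one_mem _
    | mul g g' _ _ h h' =>
      rw [show x * (g * g') * x⁻¹ = x * g * x⁻¹ * (x * g' * x⁻¹) by group]; exact mul_mem h h'
    | inv g _ h => rw [show x * g⁻¹ * x⁻¹ = (x * g * x⁻¹)⁻¹ by group]; exact inv_mem h
  have hPK : P ≤ K := by
    haveI := hcore.simple
    set Z := (scalars (Fin 3) F).subgroupOf P with hZ
    have hKnorm : (K.subgroupOf P).Normal := ⟨fun g hg x => hKn x.1 x.2 g.1 hg⟩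
    rcases (Subgroup.Normal.map hKnorm (QuotientGroup.mk' Z) (QuotientGroup.mk'_surjective Z)).eq_bot_or_eq_top with
      hb | ht
    · exfalso
      rw [Subgroup.map_eq_bot_iff, QuotientGroup.ker_mk'] at hb
      obtain ⟨g, hg, hga⟩ := (ha.2.2 1).mpr (one_mem E)
      have hgg : g * g = 1 := TvElt.sq h2 ha.2.1 hga
      have hg1 : g ≠ 1 := fun h => one_ne_zero (α := F)
        (TvElt.param_unique hF ha.1 (h ▸ hga) (TvElt.one a))
      have hs : g ∈ scalars (Fin 3) F := Subgroup.mem_subgroupOf.mp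
        (hb (show (⟨g, hg⟩ : P) ∈ K.subgroupOf P from Subgroup.subset_closure ⟨hg, hgg, hg1⟩))
      obtain ⟨c, hc⟩ := (mem_scalars_iff _).mp hs
      have h := congrArg (fun g : GL (Fin 3) F => g.val 0 0) hgg
      simp [hc] at h
      exact hg1 (Units.ext (by rw [hc, show (c : F) = 1 from sq_inj h2 (by rw [one_mul]; exact h), one_smul,
        Units.val_one]))
    · have hdec : ∀ x ∈ P, ∃ k ∈ K, k⁻¹ * x ∈ scalars (Fin 3) F := by
        intro x hx
        have hx' : ((⟨x, hx⟩ : P) : P ⧸ Z) ∈ (K.subgroupOf P).map (QuotientGroup.mk' Z) := ht ▸ Subgroup.mem_top _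
        obtain ⟨n, hn, hnx⟩ := hx'
        rw [QuotientGroup.mk'_apply, QuotientGroup.eq] at hnx
        exact ⟨n.1, hn, Subgroup.mem_subgroupOf.mp hnx⟩
      rw [← hcore.perfect, Subgroup.commutator_le]
      intro x hx y hy
      obtain ⟨k₁, hk₁, hz₁⟩ := hdec x hx
      obtain ⟨k₂, hk₂, hz₂⟩ := hdec y hy
      have e : ⁅x, y⁆ = ⁅k₁, k₂⁆ := by
        have hx1 : x = k₁ * (k₁⁻¹ * x) := by group
        have hy1 : y = k₂ * (k₂⁻¹ * y) := by group
        rw [hx1, hy1]
        exact commutator_central (fun g => scalar_comm hz₁ g) (fun g => scalar_comm hz₂ g)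
      rw [e, commutatorElement_def]
      exact mul_mem (mul_mem (mul_mem hk₁ hk₂) (inv_mem hk₁)) (inv_mem hk₂)
  refine hcore.no_subfield E2 hE2top ?_
  obtain ⟨B', hB'⟩ := hKreal
  exact ⟨B', fun s hs => hB' s (Set.image_mono hPK hs)⟩

end Cfsg.Agent.Lib.SU3Even96
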