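import Cfsg.Agent.Lib.SU3Even96.Elation
import Cfsg.Agent.Lib.SU3Max96.ResidualBase
import Cfsg.Agent.S0205
import Cfsg.Agent.S0215

set_option autoImplicit false
set_option linter.style.haveILetI false
set_option linter.unusedSectionVars false
set_option linter.unusedVariables false

/-!
Groups generated by elations in `SU(3, q)`, `q` even: centres, parameters, pairs of centres.
-/

namespace Cfsg.Agent.Lib.SU3Even96

open Cfsg.Geo Cfsg.Agent.Lib.PrimeDim.Basic Cfsg.Agent.Lib.PrimeDim.Fields Cfsg.Agent.Lib.PrimeDim.Unitary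
open Cfsg.Agent.Lib.PrimeDim.UnitaryBase Cfsg.Agent.Lib.PrimeDim.Symplectic Cfsg.Agent.Lib.Unitary
open Cfsg.Agent.Lib.SU3Max96
open scoped Matrix MatrixGroups commutatorElement

variable {F : Type*} [Field F] [Fintype F] {q : ℕ} {P : Subgroup (GL (Fin 3) F)}

/-- `c` is a parameter of an elation of `P` with centre `v`. -/
def Par (P : Subgroup (GL (Fin 3) F)) (q : ℕ) (v : Fin 3 → F) (c : F) : Prop :=
  ∃ g ∈ P, TvElt q v c g

/-- `v` is the centre of a non-trivial elation of `P`. -/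
def Centre (P : Subgroup (GL (Fin 3) F)) (q : ℕ) (v : Fin 3 → F) : Prop :=
  v ≠ 0 ∧ hermForm 3 F q v v = 0 ∧ ∃ c, c ≠ 0 ∧ Par P q v c

/-- `v` is a centre with parameters `E`. -/
def Nrm (P : Subgroup (GL (Fin 3) F)) (q : ℕ) (E : Subfield F) (v : Fin 3 → F) : Prop :=
  v ≠ 0 ∧ hermForm 3 F q v v = 0 ∧ ∀ c, Par P q v c ↔ c ∈ E

lemma Nrm.centre {E : Subfield F} {v : Fin 3 → F} (h : Nrm P q E v) : Centre P q v :=
  ⟨h.1, h.2.1, 1, one_ne_zero, (h.2.2 1).mpr (one_mem E)⟩

lemma Par.add {v : Fin 3 → F} (hv : hermForm 3 F q v v = 0) {c d : F} (h : Par P q v c) (h' : Par P q v d) :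
    Par P q v (c + d) :=
  let ⟨g, hg, hc⟩ := h
  let ⟨g', hg', hd⟩ := h'
  ⟨g * g', mul_mem hg hg', TvElt.mul hv hc hd⟩

lemma Par.zero (v : Fin 3 → F) : Par P q v 0 := ⟨1, one_mem P, TvElt.one v⟩

lemma par_scale {v : Fin 3 → F} {c l : F} : Par P q (l • v) c ↔ Par P q v (c * (l * l ^ q)) :=
  exists_congr fun _ => and_congr_right fun _ => TvElt.scale

lemma norm_ne_zero {l : F} (hl : l ≠ 0) : l * l ^ q ≠ 0 := mul_ne_zero hl (pow_ne_zero q hl)

lemma iso_smul {v : Fin 3 → F} (hv : hermForm 3 F q v v = 0) (l : F) : hermForm 3 F q (l • v) (l • v) = 0 := by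
  rw [herm_smul_left, herm_smul_right, hv, mul_zero, mul_zero]

lemma Centre.smul {v : Fin 3 → F} (h : Centre P q v) {l : F} (hl : l ≠ 0) : Centre P q (l • v) := by
  obtain ⟨hv0, hv, c, hc, hpar⟩ := h
  refine ⟨smul_ne_zero hl hv0, iso_smul hv l, c / (l * l ^ q), div_ne_zero hc (norm_ne_zero hl), ?_⟩
  rwa [par_scale, div_mul_cancel₀ _ (norm_ne_zero hl)]

lemma Nrm.smul {E : Subfield F} {v : Fin 3 → F} (h : Nrm P q E v) {l : F} (hl : l ≠ 0)
    (hlE : l * l ^ q ∈ E) : Nrm P q E (l • v) := by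
  refine ⟨smul_ne_zero hl h.1, iso_smul h.2.1 l, fun c => ?_⟩
  rw [par_scale, h.2.2]
  refine ⟨fun hc => ?_, fun hc => mul_mem hc hlE⟩
  have := div_mem hc hlE
  rwa [mul_div_cancel_right₀ _ (norm_ne_zero hl)] at this

lemma par_conj (hP : P ≤ GU 3 F q) {g : GL (Fin 3) F} (hg : g ∈ P) {v : Fin 3 → F} {c : F} :
    Par P q (g.val *ᵥ v) c ↔ Par P q v c := by
  constructor
  · rintro ⟨t, ht, htv⟩
    refine ⟨g⁻¹ * t * g⁻¹⁻¹, mul_mem (mul_mem (inv_mem hg) ht) (by rwa [inv_inv]), ?_⟩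
    have h := TvElt.conj (inv_mem (hP hg)) htv
    rwa [inv_mulVec_cancel] at h
  · rintro ⟨t, ht, htv⟩
    exact ⟨g * t * g⁻¹, mul_mem (mul_mem hg ht) (inv_mem hg), TvElt.conj (hP hg) htv⟩

lemma herm_image (hP : P ≤ GU 3 F q) {g : GL (Fin 3) F} (hg : g ∈ P) (u v : Fin 3 → F) :
    hermForm 3 F q (g.val *ᵥ u) (g.val *ᵥ v) = hermForm 3 F q u v :=
  mem_GU_iff.mp (hP hg) u v

lemma mulVec_ne_zero (g : GL (Fin 3) F) {v : Fin 3 → F} (hv : v ≠ 0) : g.val *ᵥ v ≠ 0 := fun h =>
  hv (by rw [← inv_mulVec_cancel g v, h, Matrix.mulVec_zero])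

lemma Nrm.image (hP : P ≤ GU 3 F q) {E : Subfield F} {v : Fin 3 → F} (h : Nrm P q E v) {g : GL (Fin 3) F}
    (hg : g ∈ P) : Nrm P q E (g.val *ᵥ v) :=
  ⟨mulVec_ne_zero g h.1, by rw [herm_image hP hg]; exact h.2.1, fun c => by rw [par_conj hP hg, h.2.2]⟩

lemma Centre.image (hP : P ≤ GU 3 F q) {v : Fin 3 → F} (h : Centre P q v) {g : GL (Fin 3) F} (hg : g ∈ P) :
    Centre P q (g.val *ᵥ v) := by
  obtain ⟨hv0, hv, c, hc, hpar⟩ := h
  exact ⟨mulVec_ne_zero g hv0, by rw [herm_image hP hg]; exact hv, c, hc, (par_conj hP hg).mpr hpar⟩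

lemma Par.real (hF : Fintype.card F = q ^ 2) (h2 : (2 : F) = 0) (hP : P ≤ GU 3 F q) {v : Fin 3 → F}
    (hv0 : v ≠ 0) (hv : hermForm 3 F q v v = 0) {c : F} (h : Par P q v c) : c ^ q = c :=
  let ⟨_, hg, hc⟩ := h
  param_real hF h2 (hP hg) hv0 hv hc

/-- In characteristic two the square root of an element. -/
lemma exists_sqrt (h2 : (2 : F) = 0) (x : F) : ∃ y : F, y * y = x := by
  have hchar : ringChar F = 2 :=
    CharP.ringChar_of_prime_eq_zero Nat.prime_two (by exact_mod_cast h2)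
  obtain ⟨y, hy⟩ := FiniteField.isSquare_of_char_two hchar x
  exact ⟨y, hy.symm⟩

lemma sq_inj (h2 : (2 : F) = 0) {x y : F} (h : x * x = y * y) : x = y := by
  have : (x - y) * (x - y) = 0 := by linear_combination h + (y * y - x * y) * h2
  exact sub_eq_zero.mp (mul_self_eq_zero.mp this)

/-- Two centres which are not orthogonal are exchanged by an elation of `P`. -/
theorem exists_swap (hF : Fintype.card F = q ^ 2) (h2 : (2 : F) = 0) (hP : P ≤ GU 3 F q) {a b : Fin 3 → F}
    (hab : hermForm 3 F q a b ≠ 0) (ha : hermForm 3 F q a a = 0) (hb : hermForm 3 F q b b = 0) {α β : F}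
    (hα : α ≠ 0) (hβ : β ≠ 0) (hpa : Par P q a α) (hpb : Par P q b β) :
    ∃ r ∈ P, ∃ k : F, k ≠ 0 ∧ r.val *ᵥ a = k • b ∧ r.val *ᵥ b = k⁻¹ • a ∧ α * (k * k ^ q) = β ∧
      ∀ x, hermForm 3 F q x a = 0 → hermForm 3 F q x b = 0 → r.val *ᵥ x = x := by
  obtain ⟨t, ht, hta⟩ := hpa
  obtain ⟨s, hs, hsb⟩ := hpb
  have ha0 : a ≠ 0 := fun h => hab (by rw [h, herm_zero_left])
  have hb0 : b ≠ 0 := fun h => hab (by rw [h, herm_zero_right _ hF])
  have htt : t * t = 1 := TvElt.sq h2 ha hta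
  have hss : s * s = 1 := TvElt.sq h2 hb hsb
  have hnp : ∀ k : F, b ≠ k • a := fun k h => hab (by rw [h, herm_smul_right, ha, mul_zero])
  set g := t * s with hg
  have hgP : g ∈ P := mul_mem ht hs
  have ht' : t⁻¹ = t := inv_eq_of_mul_eq_one_right htt
  have hs' : s⁻¹ = s := inv_eq_of_mul_eq_one_right hss
  have hinv : ∀ j : ℕ, t * g ^ j * t⁻¹ = (g ^ j)⁻¹ := by
    intro j
    rw [← conj_pow, ← inv_pow]
    congr 1
    rw [hg, mul_inv_rev, hs', ← mul_assoc, htt, one_mul]
  rcases Nat.even_or_odd (orderOf g) with ⟨m, hm⟩ | ⟨m, hm⟩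
  · exfalso
    have hpos : 0 < orderOf g := orderOf_pos g
    set z := g ^ m with hz
    have hzz : z * z = 1 := by rw [hz, ← pow_add, ← hm, pow_orderOf_eq_one]
    have hz1 : z ≠ 1 := fun h => pow_ne_one_of_lt_orderOf (by omega) (by omega) h
    have hzt : t * z = z * t := by
      have h := hinv m
      rw [← hz, inv_eq_of_mul_eq_one_right hzz] at h
      calc t * z = t * z * t⁻¹ * t := by group
        _ = z * t := by rw [h]
    have hzg : g * z = z * g := ((Commute.refl g).pow_right m).eq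
    have hzs : s * z = z * s := by
      have hs2 : s = t⁻¹ * g := by rw [hg]; group
      have e : t⁻¹ * g * z = z * (t⁻¹ * g) := by rw [ht', mul_assoc, hzg, ← mul_assoc, hzt, mul_assoc]
      calc s * z = t⁻¹ * g * z := congrArg (· * z) hs2
        _ = z * (t⁻¹ * g) := e
        _ = z * s := congrArg (z * ·) hs2.symm
    obtain ⟨w, c, hw0, hc, hw, hzw⟩ := exists_tv_of_invol hF h2 (hP (pow_mem hgP m)) hzz hz1
    have e1 := commute_centre hF (hP ht) hw0 hc hα ha hw hta hzw hzt
    have e2 := commute_centre hF (hP hs) hw0 hc hβ hb hw hsb hzw hzs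
    obtain ⟨k₁, hk₁⟩ := prop_of_orth hF ha0 ha hw (herm_eq_zero_symm hF e1)
    obtain ⟨k₂, hk₂⟩ := prop_of_orth hF hb0 hb hw (herm_eq_zero_symm hF e2)
    have hk20 : k₂ ≠ 0 := fun h => hw0 (by rw [hk₂, h, zero_smul])
    refine hnp (k₂⁻¹ * k₁) ?_
    rw [mul_smul, ← hk₁, hk₂, inv_smul_smul₀ hk20]
  · set r := g ^ m * t with hr
    have hrP : r ∈ P := mul_mem (pow_mem hgP m) ht
    have hrr : r * r = 1 := by
      calc r * r = g ^ m * (t * g ^ m * t⁻¹) * (t * t) := by rw [hr]; group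
        _ = 1 := by rw [hinv, htt, mul_one, mul_inv_cancel]
    have hrt : r * t * r⁻¹ = s := by
      rw [inv_eq_of_mul_eq_one_right hrr]
      have hts : s = t⁻¹ * g := by rw [hg]; group
      have hgm : g = (g ^ m)⁻¹ * (g ^ m)⁻¹ := by
        apply eq_mul_inv_of_mul_eq
        rw [eq_inv_iff_mul_eq_one]
        have h1 : g ^ (2 * m + 1) = 1 := hm ▸ pow_orderOf_eq_one g
        rw [show 2 * m + 1 = 1 + m + m by ring, pow_add, pow_add, pow_one] at h1
        exact h1
      calc r * t * r = g ^ m * (t * t) * (g ^ m) * t := by rw [hr]; group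
        _ = g ^ m * g ^ m * t⁻¹ := by rw [htt, mul_one, ht']
        _ = t⁻¹ * (t * g ^ m * t⁻¹ * (t * g ^ m * t⁻¹)) := by group
        _ = t⁻¹ * g := by rw [hinv, ← hgm]
        _ = s := hts.symm
    have hra : TvElt q (r.val *ᵥ a) α s := hrt ▸ TvElt.conj (hP hrP) hta
    obtain ⟨k, hk⟩ := TvElt.centre_unique hF (mulVec_ne_zero r ha0) hα hra hsb
    have hk0 : k ≠ 0 := fun h => mulVec_ne_zero r ha0 (by rw [hk, h, zero_smul])
    have hrb : r.val *ᵥ b = k⁻¹ • a := by
      have e : r.val *ᵥ (r.val *ᵥ a) = a := by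
        rw [Matrix.mulVec_mulVec, ← Units.val_mul, hrr, Units.val_one, Matrix.one_mulVec]
      rw [hk, Matrix.mulVec_smul] at e
      rw [← e, inv_smul_smul₀ hk0]
    have hN : α * (k * k ^ q) = β := by
      rw [hk, TvElt.scale] at hra
      exact TvElt.param_unique hF hb0 hra hsb
    have hr1 : r ≠ 1 := fun h => by
      rw [h, Units.val_one, Matrix.one_mulVec] at hk
      exact hnp k⁻¹ (by rw [hk, inv_smul_smul₀ hk0])
    obtain ⟨w, c, hw0, hc, hw, hrw⟩ := exists_tv_of_invol hF h2 (hP hrP) hrr hr1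
    refine ⟨r, hrP, k, hk0, hk, hrb, hN, fun x hxa hxb => TvElt.fix hrw ?_⟩
    have e := (hrw a).symm.trans hk
    have hl : c * hermForm 3 F q a w ≠ 0 := by
      intro h0
      rw [h0, zero_smul, add_zero] at e
      exact hnp k⁻¹ (by rw [e, inv_smul_smul₀ hk0])
    have hwe : w = (c * hermForm 3 F q a w)⁻¹ • (k • b - a) := by
      rw [← e, add_sub_cancel_left, inv_smul_smul₀ hl]
    rw [hwe, herm_smul_right, herm_sub_right _ _ _ hF, herm_smul_right, hxa, hxb, mul_zero, sub_zero, mul_zero]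

/-- The parameters of two centres which are not orthogonal differ by a factor. -/
lemma par_transport (hF : Fintype.card F = q ^ 2) (h2 : (2 : F) = 0) (hP : P ≤ GU 3 F q) {a b : Fin 3 → F}
    (hab : hermForm 3 F q a b ≠ 0) (ha : hermForm 3 F q a a = 0) (hb : hermForm 3 F q b b = 0) {α β γ : F}
    (hα : α ≠ 0) (hβ : β ≠ 0) (hpa : Par P q a α) (hpb : Par P q b β) :
    Par P q a γ ↔ Par P q b (γ * β / α) := by
  obtain ⟨r, hr, k, hk0, hra, hrb, hN, -⟩ := exists_swap hF h2 hP hab ha hb hα hβ hpa hpb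
  rw [← par_conj hP hr (v := a), hra, par_scale, ← hN, mul_left_comm γ α, mul_div_cancel_left₀ _ hα]

/-- A residual core has even order. -/
lemma even_card {X : Subgroup (GL (Fin 3) F)} (hcore : IsResidualCore X P) : Even (Nat.card P) := by
  rw [← Nat.not_odd_iff_even]
  intro hodd
  haveI : Group.IsSolvable P := Cfsg.Agent.S0205.result hodd
  haveI := hcore.simple
  haveI : Nontrivial (P ⧸ (scalars (Fin 3) F).subgroupOf P) := IsSimpleGroup.toNontrivial
  haveI : Nontrivial P := (QuotientGroup.mk_surjective (s := (scalars (Fin 3) F).subgroupOf P)).nontrivial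
  have hperf : ⁅(⊤ : Subgroup P), (⊤ : Subgroup P)⁆ = ⊤ := by
    refine Subgroup.map_injective P.subtype_injective ?_
    rw [Subgroup.map_commutator, ← MonoidHom.range_eq_map, Subgroup.range_subtype, hcore.perfect]
  have hlt := Group.IsSolvable.commutator_lt_top_of_nontrivial (G := P)
  rw [commutator_def, hperf] at hlt
  exact lt_irrefl _ hlt

/-- Some centre carries two non-trivial elations. -/
theorem exists_two (hF : Fintype.card F = q ^ 2) (h2 : (2 : F) = 0) {X : Subgroup (GL (Fin 3) F)}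
    (hX : X ≤ GU 3 F q) (hcore : IsResidualCore X P) :
    ∃ (v : Fin 3 → F) (c d : F), v ≠ 0 ∧ hermForm 3 F q v v = 0 ∧ c ≠ 0 ∧ d ≠ 0 ∧ c ≠ d ∧
      Par P q v c ∧ Par P q v d := by
  classical
  by_contra hall
  push Not at hall
  have hP : P ≤ GU 3 F q := hcore.le.trans hX
  haveI : Fact (Nat.Prime 2) := ⟨Nat.prime_two⟩
  obtain ⟨S⟩ : Nonempty (Sylow 2 P) := inferInstance
  have hSnt : Nontrivial S := by
    rw [← Finite.one_lt_card_iff_nontrivial, S.card_eq_multiplicity]
    have h := (Nat.Prime.dvd_iff_one_le_factorization Nat.prime_two (Nat.card_pos (α := P)).ne').mp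
      (even_card hcore).two_dvd
    exact Nat.one_lt_pow (by omega) one_lt_two
  haveI : Nontrivial (Subgroup.center S) := S.2.center_nontrivial
  obtain ⟨k, hk⟩ := exists_prime_orderOf_dvd_card' (G := Subgroup.center S) 2 (by
    obtain ⟨n, hn, hcard⟩ := (S.2.to_subgroup (Subgroup.center S)).nontrivial_iff_card.mp inferInstance
    exact hcard ▸ dvd_pow_self 2 (by omega))
  set z : P := ((k : S) : P) with hz
  have hzS : z ∈ (S : Subgroup P) := (k : S).2
  have hoz : orderOf z = 2 := by rw [hz, Subgroup.orderOf_coe, Subgroup.orderOf_coe, hk]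
  have hz1 : (z : GL (Fin 3) F) ≠ 1 := fun h => by
    rw [show z = 1 from Subtype.ext h, orderOf_one] at hoz
    exact absurd hoz (by norm_num)
  have hzz : (z : GL (Fin 3) F) * z = 1 := by
    have h := pow_orderOf_eq_one z
    rw [hoz, sq] at h
    exact congrArg Subtype.val h
  obtain ⟨a, α, ha0, hα, ha, hza⟩ := exists_tv_of_invol hF h2 (hP z.2) hzz hz1
  have huniq : ∀ s : P, s ∈ (S : Subgroup P) → orderOf s = 2 → s = z := by
    intro s hs hos
    have hs1 : (s : GL (Fin 3) F) ≠ 1 := fun h => by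
      rw [show s = 1 from Subtype.ext h, orderOf_one] at hos
      exact absurd hos (by norm_num)
    have hss : (s : GL (Fin 3) F) * s = 1 := by
      have h := pow_orderOf_eq_one s
      rw [hos, sq] at h
      exact congrArg Subtype.val h
    obtain ⟨w, c, hw0, hc, hw, hsw⟩ := exists_tv_of_invol hF h2 (hP s.2) hss hs1
    have hcomm : (z : GL (Fin 3) F) * s = s * z :=
      congrArg (fun x : S => ((x : P) : GL (Fin 3) F)) (Subgroup.mem_center_iff.mp k.2 ⟨s, hs⟩).symm
    obtain ⟨l, hl⟩ := prop_of_orth hF ha0 ha hw (herm_eq_zero_symm hF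
      (commute_centre hF (hP z.2) hw0 hc hα ha hw hza hsw hcomm))
    have hl0 : l ≠ 0 := fun h => hw0 (by rw [hl, h, zero_smul])
    rw [hl, TvElt.scale] at hsw
    have e : c * (l * l ^ q) = α := by
      by_contra hne
      exact hall a _ α ha0 ha (mul_ne_zero hc (norm_ne_zero hl0)) hα hne ⟨_, s.2, hsw⟩ ⟨_, z.2, hza⟩
    rw [e] at hsw
    exact Subtype.ext (TvElt.eq hsw hza)
  have hoconj : ∀ g : P, orderOf (g * z * g⁻¹) = 2 := fun g => by
    rw [← hoz, ← MulAut.conj_apply]
    exact (MulAut.conj g).orderOf_eq z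
  obtain ⟨N, hNn, hNodd, hN⟩ := Cfsg.Agent.S0215.result S z hoz hzS fun g hg => huniq _ hg (hoconj g)
  haveI := hcore.simple
  set Z := (scalars (Fin 3) F).subgroupOf P with hZ
  rcases (Subgroup.Normal.map hNn (QuotientGroup.mk' Z) (QuotientGroup.mk'_surjective Z)).eq_bot_or_eq_top with
    hb | ht
  · rw [Subgroup.map_eq_bot_iff, QuotientGroup.ker_mk'] at hb
    have hzs : (z : GL (Fin 3) F) ∈ scalars (Fin 3) F := hcore.centralizer_scalar _ (hcore.le z.2) fun x hx =>
      Subgroup.mem_subgroupOf.mp (hb (hN ⟨x, hx⟩))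
    obtain ⟨c, hc⟩ := (mem_scalars_iff _).mp hzs
    have h := congrArg (fun g : GL (Fin 3) F => g.val 0 0) hzz
    simp [hc] at h
    have hc1 : (c : F) = 1 := sq_inj h2 (by rw [one_mul]; exact h)
    exact hz1 (Units.ext (by rw [hc, hc1, one_smul, Units.val_one]))
  · have hNtop : ⁅(⊤ : Subgroup P), (⊤ : Subgroup P)⁆ ≤ N := by
      rw [Subgroup.commutator_le]
      intro x _ y _
      have hx : (x : P ⧸ Z) ∈ N.map (QuotientGroup.mk' Z) := ht ▸ Subgroup.mem_top _
      obtain ⟨n, hn, hnx⟩ := hx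
      rw [QuotientGroup.mk'_apply, QuotientGroup.eq] at hnx
      have hc : Commute ((n⁻¹ * x : P) : P) y :=
        Subtype.ext (scalar_comm (Subgroup.mem_subgroupOf.mp hnx) (y : GL (Fin 3) F))
      rw [show ⁅x, y⁆ = n * ⁅n⁻¹ * x, y⁆ * n⁻¹ * ⁅n, y⁆ by simp [commutatorElement_def]; group,
        commutatorElement_eq_one_iff_commute.mpr hc, mul_one, mul_inv_cancel, one_mul,
        show ⁅n, y⁆ = n * (y * n⁻¹ * y⁻¹) by rw [commutatorElement_def]; group]
      exact mul_mem hn (hNn.conj_mem _ (inv_mem hn) y)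
    have hperf : ⁅(⊤ : Subgroup P), (⊤ : Subgroup P)⁆ = ⊤ := by
      refine Subgroup.map_injective P.subtype_injective ?_
      rw [Subgroup.map_commutator, ← MonoidHom.range_eq_map, Subgroup.range_subtype, hcore.perfect]
    rw [hperf, top_le_iff] at hNtop
    rw [hNtop, Subgroup.card_top] at hNodd
    exact Nat.not_even_iff_odd.mpr hNodd (even_card hcore)

/-- No proper subspace contains all centres. -/
lemma exists_centre_notMem (hP : P ≤ GU 3 F q) (habs : ActsAbsolutelyIrreducibly (matrixSet P))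
    {a : Fin 3 → F} (ha : Centre P q a) {W : Submodule F (Fin 3 → F)} (hW : W ≠ ⊤) :
    ∃ b, Centre P q b ∧ b ∉ W := by
  by_contra hall
  push Not at hall
  set C := Submodule.span F {v | Centre P q v}
  have hC : Invariant P C := by
    intro g hg v hv
    induction hv using Submodule.span_induction with
    | mem w hw => exact Submodule.subset_span (Centre.image hP hw hg)
    | zero => rw [Matrix.mulVec_zero]; exact zero_mem _
    | add u w _ _ hu hw => rw [Matrix.mulVec_add]; exact add_mem hu hw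
    | smul c u _ hu => rw [Matrix.mulVec_smul]; exact Submodule.smul_mem _ c hu
  rcases irred_iff.mp habs.1 C hC with h | h
  · exact ha.1 ((Submodule.mem_bot F).mp (h ▸ Submodule.subset_span ha))
  · exact hW (eq_top_iff.mpr (h ▸ Submodule.span_le.mpr hall))

lemma exists_centre_not_orth (hF : Fintype.card F = q ^ 2) (hP : P ≤ GU 3 F q)
    (habs : ActsAbsolutelyIrreducibly (matrixSet P)) {a : Fin 3 → F} (ha : Centre P q a) :
    ∃ b, Centre P q b ∧ hermForm 3 F q b a ≠ 0 := by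
  obtain ⟨x, hx⟩ := exists_pairing hF ha.1
  let W : Submodule F (Fin 3 → F) :=
    { carrier := {v | hermForm 3 F q v a = 0}
      add_mem' := fun {u v} hu hv => by
        show hermForm 3 F q (u + v) a = 0
        rw [herm_add_left, show hermForm 3 F q u a = 0 from hu, show hermForm 3 F q v a = 0 from hv, add_zero]
      zero_mem' := herm_zero_left _
      smul_mem' := fun c v hv => by
        show hermForm 3 F q (c • v) a = 0
        rw [herm_smul_left, show hermForm 3 F q v a = 0 from hv, mul_zero] }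
  obtain ⟨b, hb, hbW⟩ := exists_centre_notMem hP habs ha (W := W) fun h =>
    hx (show x ∈ W from h ▸ Submodule.mem_top)
  exact ⟨b, hb, hbW⟩

/-- The field of parameters. -/
theorem exists_field (hF : Fintype.card F = q ^ 2) (h2 : (2 : F) = 0) {X : Subgroup (GL (Fin 3) F)}
    (hX : X ≤ GU 3 F q) (hcore : IsResidualCore X P) :
    ∃ (a : Fin 3 → F) (E : Subfield F), Nrm P q E a ∧ (∃ k ∈ E, k ≠ 0 ∧ k ≠ 1) ∧
      ∀ d, Centre P q d → ∃ l : F, l ≠ 0 ∧ Nrm P q E (l • d) := by
  classical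
  have hP : P ≤ GU 3 F q := hcore.le.trans hX
  obtain ⟨v, c, d, hv0, hv, hc, hd, hcd, hpc, hpd⟩ := exists_two hF h2 hX hcore
  obtain ⟨l, hl⟩ := norm_surj hF (hpc.real hF h2 hP hv0 hv)
  have hl0 : l ≠ 0 := fun h => hc (by rw [← hl, h, zero_mul])
  set a := l • v with hadef
  have ha : hermForm 3 F q a a = 0 := iso_smul hv l
  have ha0 : a ≠ 0 := smul_ne_zero hl0 hv0
  have h1 : Par P q a 1 := by rw [hadef, par_scale, one_mul, hl]; exact hpc
  have hk : Par P q a (d / c) := by rw [hadef, par_scale, hl, div_mul_cancel₀ _ hc]; exact hpd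
  have hcen : Centre P q a := ⟨ha0, ha, 1, one_ne_zero, h1⟩
  have habs := hcore.absIrred
  obtain ⟨b, ⟨hb0, hb, β, hβ, hpb⟩, hba⟩ := exists_centre_not_orth hF hP habs hcen
  have hab : hermForm 3 F q a b ≠ 0 := fun h => hba (herm_eq_zero_symm hF h)
  have hmul : ∀ x y, Par P q a x → Par P q a y → Par P q a (x * y) := by
    intro x y hx hy
    rcases eq_or_ne y 0 with rfl | hy0
    · rw [mul_zero]; exact Par.zero a
    have hb' : Par P q b (y * β) := by
      have := (par_transport hF h2 hP hab ha hb one_ne_zero hβ h1 hpb).mp hy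
      rwa [div_one] at this
    refine (par_transport hF h2 hP hab ha hb one_ne_zero hβ h1 hpb).mpr ?_
    have := (par_transport hF h2 hP hab ha hb one_ne_zero (mul_ne_zero hy0 hβ) h1 hb').mp hx
    rw [div_one, ← mul_assoc] at this
    rwa [div_one]
  have hpow : ∀ (x : F), Par P q a x → ∀ n : ℕ, Par P q a (x ^ n) := by
    intro x hx n
    induction n with
    | zero => rw [pow_zero]; exact h1
    | succ n ih => rw [pow_succ]; exact hmul _ _ ih hx
  let E : Subfield F :=
    { carrier := {x | Par P q a x}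
      mul_mem' := fun {x y} hx hy => hmul x y hx hy
      one_mem' := h1
      add_mem' := fun {x y} hx hy => Par.add ha hx hy
      zero_mem' := Par.zero a
      neg_mem' := fun {x} hx => by
        show Par P q a (-x)
        rw [neg_eq_self h2]; exact hx
      inv_mem' := fun x hx => by
        show Par P q a x⁻¹
        rcases eq_or_ne x 0 with rfl | hx0
        · rw [inv_zero]; exact Par.zero a
        · have h := hpow x hx (Fintype.card F - 2)
          have hcard : 1 < Fintype.card F := Fintype.one_lt_card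
          have e : x ^ (Fintype.card F - 2) * x = 1 := by
            rw [← pow_succ, show Fintype.card F - 2 + 1 = Fintype.card F - 1 by omega,
              FiniteField.pow_card_sub_one_eq_one x hx0]
          rwa [eq_inv_of_mul_eq_one_left e] at h }
  have hEa : Nrm P q E a := ⟨ha0, ha, fun c => Iff.rfl⟩
  refine ⟨a, E, hEa, ⟨d / c, hk, div_ne_zero hd hc, fun h => hcd ((div_eq_one_iff_eq hc).mp h).symm⟩, ?_⟩
  intro e ⟨he0, he, γ, hγ, hpe⟩
  by_cases hae : hermForm 3 F q a e = 0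
  · obtain ⟨k, hk'⟩ := prop_of_orth hF ha0 ha he hae
    have hk0 : k ≠ 0 := fun h => he0 (by rw [hk', h, zero_smul])
    refine ⟨k⁻¹, inv_ne_zero hk0, ?_⟩
    rwa [hk', inv_smul_smul₀ hk0]
  · obtain ⟨m, hm⟩ := norm_surj hF (hpe.real hF h2 hP he0 he)
    have hm0 : m ≠ 0 := fun h => hγ (by rw [← hm, h, zero_mul])
    refine ⟨m, hm0, smul_ne_zero hm0 he0, iso_smul he m, fun x => ?_⟩
    rw [par_scale, hm]
    have h := par_transport (γ := x) hF h2 hP hae ha he one_ne_zero hγ h1 hpe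
    rw [div_one] at h
    exact h.symm.trans (hEa.2.2 x)

end Cfsg.Agent.Lib.SU3Even96
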